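import Mathlib

/-!
# Groups of odd order acting on a group of order eight
-/

set_option autoImplicit false
set_option linter.unusedSectionVars false
set_option linter.style.haveILetI false

namespace Cfsg.Lib.EightSolvable

open Subgroup

variable {E : Type*} [Group E] [Finite E]

/-- The points fixed by a subgroup of automorphisms. -/
def autoFix (K : Subgroup (MulAut E)) : Subgroup E where
  carrier := {a | ∀ σ ∈ K, σ a = a}
  one_mem' := fun σ _ => map_one σ
  mul_mem' := fun {a b} ha hb σ hσ => by rw [map_mul, ha σ hσ, hb σ hσ]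
  inv_mem' := fun {a} ha σ hσ => by rw [map_inv, ha σ hσ]

lemma autoFix_card_modEq (K : Subgroup (MulAut E)) {q : ℕ} [Fact q.Prime] (hK : IsPGroup q K) :
    Nat.card E ≡ Nat.card (autoFix K) [MOD q] := by
  refine (hK.card_modEq_card_fixedPoints E).trans (congrArg (· % q) ?_)
  refine Nat.card_congr (Equiv.subtypeEquivRight fun a => ?_)
  exact ⟨fun h σ hσ => h ⟨σ, hσ⟩, fun h σ => h σ.1 σ.2⟩

lemma autoFix_ne_top {K : Subgroup (MulAut E)} (hK : K ≠ ⊥) : autoFix K ≠ ⊤ := by
  intro h
  refine hK (eq_bot_iff.2 fun σ hσ => ?_)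
  refine Subgroup.mem_bot.2 (MulEquiv.ext fun a => ?_)
  exact (h ▸ mem_top a : a ∈ autoFix K) σ hσ

lemma autoFix_card_small (h8 : Nat.card E = 8) {K : Subgroup (MulAut E)} (hK : K ≠ ⊥) :
    Nat.card (autoFix K) = 1 ∨ Nat.card (autoFix K) = 2 ∨ Nat.card (autoFix K) = 4 := by
  have hd : Nat.card (autoFix K) ∣ 8 := h8 ▸ Subgroup.card_subgroup_dvd_card _
  have hne : Nat.card (autoFix K) ≠ 8 := fun h =>
    autoFix_ne_top hK (Subgroup.eq_top_of_card_eq _ (h.trans h8.symm))
  have hle : Nat.card (autoFix K) ≤ 8 := Nat.le_of_dvd (by norm_num) hd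
  have : 1 ≤ Nat.card (autoFix K) := Nat.card_pos
  generalize Nat.card (autoFix K) = c at *
  interval_cases c <;> omega

lemma auto_order_five (h8 : Nat.card E = 8) {σ : MulAut E} (hσ : orderOf σ = 5) : False := by
  haveI : Fact (Nat.Prime 5) := ⟨by norm_num⟩
  have hc : Nat.card (zpowers σ) = 5 := by rw [Nat.card_zpowers, hσ]
  have h := autoFix_card_modEq (zpowers σ) (IsPGroup.of_card (n := 1) (by rw [hc, pow_one]))
  have hne : zpowers σ ≠ ⊥ := fun h => by rw [h, Subgroup.card_bot] at hc; omega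
  rcases autoFix_card_small h8 hne with e | e | e <;> rw [h8, e] at h <;> revert h <;> decide

lemma auto_order_three (h8 : Nat.card E = 8) {σ : MulAut E} (hσ : orderOf σ = 3) {a b : E}
    (ha1 : a ≠ 1) (ha : σ a = a) (hb : σ b = b) : b = 1 ∨ b = a := by
  haveI : Fact (Nat.Prime 3) := ⟨by norm_num⟩
  have hc : Nat.card (zpowers σ) = 3 := by rw [Nat.card_zpowers, hσ]
  have h := autoFix_card_modEq (zpowers σ) (IsPGroup.of_card (n := 1) (by rw [hc, pow_one]))
  have hne : zpowers σ ≠ ⊥ := fun h => by rw [h, Subgroup.card_bot] at hc; omega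
  have hmem : ∀ {x : E}, σ x = x → x ∈ autoFix (zpowers σ) := fun {x} hx τ hτ => by
    have hle : zpowers σ ≤ MulAction.stabilizer (MulAut E) x := zpowers_le.2 hx
    exact hle hτ
  rcases autoFix_card_small h8 hne with e | e | e <;> rw [h8, e] at h
  · exact absurd h (by decide)
  · by_contra hcon
    push Not at hcon
    have hsub : ({1, a, b} : Set E) ⊆ (autoFix (zpowers σ) : Set E) := by
      rintro x (rfl | rfl | rfl)
      · exact one_mem _
      · exact hmem ha
      · exact hmem hb
    have h2 := Set.ncard_le_ncard hsub (Set.toFinite _)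
    rw [Set.ncard_eq_three.2 ⟨1, a, b, ha1.symm, hcon.1.symm, hcon.2.symm, rfl⟩,
      ← Nat.card_coe_set_eq] at h2
    change 3 ≤ Nat.card (autoFix (zpowers σ)) at h2
    omega
  · exact absurd h (by decide)

lemma auto_order_seven (h8 : Nat.card E = 8) {σ : MulAut E} (hσ : orderOf σ = 7) {a : E}
    (ha : σ a = a) : a = 1 := by
  haveI : Fact (Nat.Prime 7) := ⟨by norm_num⟩
  have hc : Nat.card (zpowers σ) = 7 := by rw [Nat.card_zpowers, hσ]
  have h := autoFix_card_modEq (zpowers σ) (IsPGroup.of_card (n := 1) (by rw [hc, pow_one]))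
  have hne : zpowers σ ≠ ⊥ := fun h => by rw [h, Subgroup.card_bot] at hc; omega
  have hm : a ∈ autoFix (zpowers σ) := fun τ hτ => by
    have hle : zpowers σ ≤ MulAction.stabilizer (MulAut E) a := zpowers_le.2 ha
    exact hle hτ
  rcases autoFix_card_small h8 hne with e | e | e <;> rw [h8, e] at h
  · exact Subgroup.mem_bot.1 (Subgroup.eq_bot_of_card_eq _ e ▸ hm)
  · exact absurd h (by decide)
  · exact absurd h (by decide)

lemma auto_nine (h8 : Nat.card E = 8) (P : Subgroup (MulAut E)) (hP : Nat.card P = 9) : False := by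
  haveI : Fact (Nat.Prime 3) := ⟨by norm_num⟩
  have h := autoFix_card_modEq P (IsPGroup.of_card (p := 3) (n := 2) (by rw [hP]; rfl))
  have hne : P ≠ ⊥ := fun h => by rw [h, Subgroup.card_bot] at hP; omega
  have h2 : Nat.card (autoFix P) = 2 := by
    rcases autoFix_card_small h8 hne with e | e | e <;> rw [h8, e] at h
    · exact absurd h (by decide)
    · exact e
    · exact absurd h (by decide)
  obtain ⟨a, ha, ha1⟩ : ∃ a ∈ autoFix P, a ≠ 1 := by
    by_contra hcon
    push Not at hcon
    have : autoFix P = ⊥ := (Subgroup.eq_bot_iff_forall _).2 hcon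
    rw [this, Subgroup.card_bot] at h2
    omega
  -- every point is fixed by an element of order three
  refine autoFix_ne_top hne (eq_top_iff.2 fun x _ => ?_)
  obtain ⟨σ, τ, hστ, hne'⟩ : ∃ σ τ : P, (σ : MulAut E) x = (τ : MulAut E) x ∧ σ ≠ τ := by
    haveI := Fintype.ofFinite P
    haveI := Fintype.ofFinite E
    obtain ⟨σ, τ, hne', hστ⟩ := Fintype.exists_ne_map_eq_of_card_lt (fun σ : P => (σ : MulAut E) x)
      (by rw [← Nat.card_eq_fintype_card, ← Nat.card_eq_fintype_card, hP, h8]; norm_num)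
    exact ⟨σ, τ, hστ, hne'⟩
  set ρ := (τ : MulAut E)⁻¹ * (σ : MulAut E) with hρ
  have hρx : ρ x = x := by
    rw [hρ, MulAut.mul_apply, hστ]
    exact (τ : MulAut E).symm_apply_apply x
  have hρP : ρ ∈ P := mul_mem (inv_mem τ.2) σ.2
  have hρ1 : ρ ≠ 1 := fun h => hne' (Subtype.ext (inv_mul_eq_one.1 h).symm)
  obtain ⟨π, hπ, hπP, hπfix⟩ : ∃ π : MulAut E, orderOf π = 3 ∧ π ∈ P ∧ π x = x := by
    have hd : orderOf ρ ∣ 3 ^ 2 := by
      rw [show (3 : ℕ) ^ 2 = 9 by rfl, ← hP]; exact Subgroup.orderOf_dvd_natCard P hρP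
    obtain ⟨i, hi, he⟩ := (Nat.dvd_prime_pow (by norm_num)).1 hd
    interval_cases i
    · exact absurd (orderOf_eq_one_iff.1 he) hρ1
    · exact ⟨ρ, he, hρP, hρx⟩
    · refine ⟨ρ ^ 3, ?_, pow_mem hρP 3, ?_⟩
      · rw [orderOf_pow' _ (by norm_num), he]; rfl
      · exact (pow_mem (show ρ ∈ MulAction.stabilizer (MulAut E) x from hρx) 3 :)
  rcases auto_order_three h8 hπ ha1 (ha π hπP) hπfix with e | e
  · exact e ▸ one_mem _
  · exact e ▸ ha

/-- **Odd groups of automorphisms of a group of order eight without common fixed points.** -/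
theorem auto_structure (h8 : Nat.card E = 8) (K : Subgroup (MulAut E)) (hodd : Odd (Nat.card K))
    (hfix : ∀ a : E, (∀ σ ∈ K, σ a = a) → a = 1) :
    Nat.card K = 7 ∨ (Nat.card K = 21 ∧ (∀ a b : E, a ≠ 1 → b ≠ 1 → ∃ σ ∈ K, σ a = b) ∧
      (∀ σ ∈ K, σ ≠ 1 → ∀ a b : E, a ≠ 1 → σ a = a → σ b = b → b = 1 ∨ b = a) ∧
      ∀ a : E, a ≠ 1 → Nat.card (MulAction.stabilizer K a) = 3) := by
  classical
  haveI : Finite (MulAut E) := Finite.of_injective _ (DFunLike.coe_injective (F := MulAut E))
  have hdvd : Nat.card K ∣ 40320 := by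
    let f : MulAut E →* Equiv.Perm E :=
      { toFun := fun σ => σ.toEquiv, map_one' := rfl, map_mul' := fun _ _ => rfl }
    have hf : Function.Injective (f.comp K.subtype) := fun σ τ h => by
      refine Subtype.ext (MulEquiv.ext fun a => ?_)
      exact congrArg (fun e : Equiv.Perm E => e a) h
    have h := Subgroup.card_dvd_of_injective _ hf
    rwa [Nat.card_perm, h8] at h
  have h5 : ¬ 5 ∣ Nat.card K := fun h => by
    haveI : Fact (Nat.Prime 5) := ⟨by norm_num⟩
    obtain ⟨σ, hσ⟩ := exists_prime_orderOf_dvd_card' 5 h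
    exact auto_order_five h8 (σ := (σ : MulAut E)) (by rw [orderOf_coe, hσ])
  have h9 : ¬ 9 ∣ Nat.card K := fun h => by
    haveI : Fact (Nat.Prime 3) := ⟨by norm_num⟩
    obtain ⟨P, hP⟩ := Sylow.exists_subgroup_card_pow_prime (G := K) 3 (n := 2) h
    exact auto_nine h8 (P.map K.subtype) (by rw [Subgroup.card_map_of_injective K.subtype_injective, hP]; rfl)
  have h315 : Nat.card K ∣ 315 := by
    have hcop : (Nat.card K).Coprime (2 ^ 7) := Nat.Coprime.pow_right _ (Nat.coprime_two_right.2 hodd)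
    exact hcop.dvd_of_dvd_mul_left (by norm_num; exact hdvd)
  have hk : Nat.card K = 1 ∨ Nat.card K = 3 ∨ Nat.card K = 7 ∨ Nat.card K = 21 := by
    have hle : Nat.card K ≤ 315 := Nat.le_of_dvd (by norm_num) h315
    generalize Nat.card K = k at *
    have hmem : k ∈ Nat.divisors 315 := Nat.mem_divisors.2 ⟨h315, by norm_num⟩
    rw [show Nat.divisors 315 = {1, 3, 5, 7, 9, 15, 21, 35, 45, 63, 105, 315} by decide] at hmem
    simp only [Finset.mem_insert, Finset.mem_singleton] at hmem
    omega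
  rcases hk with hk | hk | hk | hk
  · exfalso
    haveI : Nontrivial E := Finite.one_lt_card_iff_nontrivial.1 (by rw [h8]; norm_num)
    obtain ⟨a, ha⟩ := exists_ne (1 : E)
    refine ha (hfix a fun σ hσ => ?_)
    rw [Subgroup.eq_bot_of_card_eq K hk, Subgroup.mem_bot] at hσ
    rw [hσ]; rfl
  · exfalso
    haveI : Fact (Nat.Prime 3) := ⟨by norm_num⟩
    have hne : K ≠ ⊥ := fun h => by rw [h, Subgroup.card_bot] at hk; omega
    have h := autoFix_card_modEq K (IsPGroup.of_card (p := 3) (n := 1) (by rw [hk, pow_one]))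
    have hbot : autoFix K = ⊥ := (Subgroup.eq_bot_iff_forall _).2 fun a ha => hfix a ha
    rw [h8, hbot, Subgroup.card_bot] at h
    exact absurd h (by decide)
  · exact Or.inl hk
  refine Or.inr ⟨hk, ?_, ?_, ?_⟩
  case refine_2 =>
    intro σ hσ h1 a b ha hσa hσb
    have hd : orderOf σ ∣ 21 := hk ▸ Subgroup.orderOf_dvd_natCard K hσ
    have hmem : orderOf σ ∈ Nat.divisors 21 := Nat.mem_divisors.2 ⟨hd, by norm_num⟩
    rw [show Nat.divisors 21 = {1, 3, 7, 21} by decide] at hmem
    simp only [Finset.mem_insert, Finset.mem_singleton] at hmem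
    rcases hmem with e | e | e | e
    · exact absurd (orderOf_eq_one_iff.1 e) h1
    · exact auto_order_three h8 e ha hσa hσb
    · exact absurd (auto_order_seven h8 e hσa) ha
    · refine absurd (auto_order_seven h8 (σ := σ ^ 3) ?_ ?_) ha
      · rw [orderOf_pow' _ (by norm_num), e]; rfl
      · exact (pow_mem (show σ ∈ MulAction.stabilizer (MulAut E) a from hσa) 3 :)
  all_goals
    haveI : Fact (Nat.Prime 7) := ⟨by norm_num⟩
    obtain ⟨σ, hσ⟩ := exists_prime_orderOf_dvd_card' (G := K) 7 (by rw [hk]; norm_num)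
    have hσ' : orderOf (σ : MulAut E) = 7 := by rw [orderOf_coe, hσ]
    have horb : ∀ a : E, a ≠ 1 → MulAction.orbit K a = {x : E | x ≠ 1} := by
      intro a ha
      have hsub : MulAction.orbit K a ⊆ {x : E | x ≠ 1} := by
        rintro x ⟨τ, rfl⟩ h
        exact ha ((τ : MulAut E).map_eq_one_iff.1 h)
      refine Set.eq_of_subset_of_ncard_le hsub ?_ (Set.toFinite _)
      have hstab : MulAction.stabilizer (zpowers σ) a = ⊥ := by
        refine (Subgroup.eq_bot_iff_forall _).2 fun τ hτ => ?_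
        by_contra hne
        have h7 : orderOf ((τ : K) : MulAut E) = 7 := by
          rw [orderOf_coe, orderOf_coe]
          exact orderOf_eq_prime (by
            have := pow_card_eq_one' (x := τ)
            rwa [Nat.card_zpowers, hσ] at this) hne
        exact ha (auto_order_seven h8 h7 hτ)
      have h7 : (MulAction.orbit (zpowers σ) a).ncard = 7 := by
        have h := MulAction.index_stabilizer (zpowers σ) a
        rw [hstab, Subgroup.index_bot, Nat.card_zpowers, hσ] at h
        exact h.symm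
      have hs : MulAction.orbit (zpowers σ) a ⊆ MulAction.orbit K a := by
        rintro x ⟨τ, rfl⟩
        exact ⟨τ, rfl⟩
      have h8' : ({x : E | x ≠ 1} : Set E).ncard = 7 := by
        rw [show ({x : E | x ≠ 1} : Set E) = {(1 : E)}ᶜ from rfl, Set.ncard_compl, Set.ncard_singleton, h8]
      rw [h8', ← h7]
      exact Set.ncard_le_ncard hs (Set.toFinite _)
  · intro a b ha hb
    obtain ⟨τ, hτ⟩ : b ∈ MulAction.orbit K a := by rw [horb a ha]; exact hb
    exact ⟨τ, τ.2, hτ⟩
  · intro a ha
    have h := MulAction.index_stabilizer K a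
    rw [horb a ha, show ({x : E | x ≠ 1} : Set E) = {(1 : E)}ᶜ from rfl, Set.ncard_compl,
      Set.ncard_singleton, h8] at h
    have h' := Subgroup.card_mul_index (MulAction.stabilizer K a)
    rw [h, hk] at h'
    omega

end Cfsg.Lib.EightSolvable
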