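import Cfsg.Agent.InvolCalc.EightSolvable.Structure
import Cfsg.Agent.Chars.TI
import Cfsg.Agent.Chars.Gallagher

/-!
# Two linear characters of the centraliser of an involution
-/

set_option autoImplicit false
set_option linter.unusedSectionVars false
set_option linter.style.haveILetI false

namespace Cfsg.Lib.EightSolvable

open Subgroup Cfsg.Lib.Chars
open scoped ComplexConjugate

universe u

variable {G : Type u} [Group G] [Finite G]

/-- A sign character `e` and a character `l` of order three with kernel `O S`. -/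
structure LinPair (S : Sylow 2 G) (t : G) (ht : t ∈ invC t) where
  e : invC t →* ℂˣ
  l : invC t →* ℂˣ
  e_sq : ∀ x, (e x : ℂ) * e x = 1
  e_t : (e ⟨t, ht⟩ : ℂ) = -1
  e_odd : ∀ x, Odd (orderOf x) → (e x : ℂ) = 1
  l_cube : ∀ x, (l x : ℂ) * l x * l x = 1
  l_ker : ∀ x, x ∈ invM S t ↔ (l x : ℂ) = 1

theorem exists_linPair {S : Sylow 2 G} (h : Hyp S) {t : G} (ht : t ∈ (S : Subgroup G)) (h1 : t ≠ 1) :
    Nonempty (LinPair S t (le_invC S h.comm ht ht)) := by
  classical
  haveI : Fact (Nat.Prime 2) := ⟨Nat.prime_two⟩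
  haveI : Fact (Nat.Prime 3) := ⟨by norm_num⟩
  have hle := le_invC S h.comm ht
  obtain ⟨hn, hidx, -, -, -, -, -⟩ := h.frame ht h1
  haveI := hn
  -- the character of order three
  haveI : IsCyclic (invC t ⧸ invM S t) := isCyclic_of_prime_card (p := 3) (by
    rw [← Subgroup.index_eq_card, hidx])
  obtain ⟨g, hg⟩ := IsCyclic.exists_generator (α := invC t ⧸ invM S t)
  have hgo : orderOf g = 3 := by
    rw [orderOf_eq_card_of_forall_mem_zpowers hg, ← Subgroup.index_eq_card, hidx]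
  have hω : IsPrimitiveRoot (Units.mk0 (Complex.exp (2 * Real.pi * Complex.I / (3 : ℕ))) (Complex.exp_ne_zero _)) 3 :=
    IsPrimitiveRoot.coe_units_iff.1 (Complex.isPrimitiveRoot_exp 3 (by norm_num))
  let μ := monoidHomOfForallMemZpowers hg
    (g' := Units.mk0 (Complex.exp (2 * Real.pi * Complex.I / (3 : ℕ))) (Complex.exp_ne_zero _))
    (by rw [← hω.eq_orderOf, hgo])
  have hμ : ∀ q, μ q = 1 → q = 1 := by
    intro q hq
    obtain ⟨k, rfl⟩ := mem_zpowers_iff.1 (hg q)
    rw [map_zpow, show μ g = _ from monoidHomOfForallMemZpowers_apply_gen hg _, hω.zpow_eq_one_iff_dvd] at hq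
    rw [← orderOf_dvd_iff_zpow_eq_one, hgo]
    exact hq
  -- the sign
  haveI := h.comm
  set P := S.subtype hle with hP
  have hPc : IsMulCommutative (P : Subgroup (invC t)) :=
    ⟨⟨fun a b => by
      have h' := congrArg Subtype.val
        (h.comm.is_comm.comm (⟨((a : invC t) : G), a.2⟩ : (S : Subgroup G)) ⟨((b : invC t) : G), b.2⟩)
      exact Subtype.ext (Subtype.ext h')⟩⟩
  haveI := hPc
  set t' : invC t := ⟨t, hle ht⟩ with ht'
  have htP : t' ∈ (P : Subgroup (invC t)) := ht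
  open scoped IsMulCommutative in
  obtain ⟨φ, hφ⟩ := CommGroup.exists_apply_ne_one_of_hasEnoughRootsOfUnity (P : Subgroup (invC t)) ℂ
    (a := (⟨t', htP⟩ : (P : Subgroup (invC t)))) (fun e => h1 (congrArg (fun z : (P : Subgroup (invC t)) => ((z : invC t) : G)) e))
  open scoped IsMulCommutative in
  let τ := MonoidHom.transfer (MonoidHom.id (P : Subgroup (invC t)))
  have hsq : ∀ a : (P : Subgroup (invC t)), a * a = 1 := fun a =>
    Subtype.ext (Subtype.ext (h.sq _ a.2))
  have hφsq : ∀ a, (φ a : ℂ) * φ a = 1 := fun a => by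
    rw [← Units.val_mul, ← map_mul, hsq, map_one, Units.val_one]
  have hcen : t' ∈ center (invC t) := mem_center_iff.2 fun y =>
    Subtype.ext (mem_centralizer_singleton_iff.1 y.2)
  open scoped IsMulCommutative in
  have hτt : τ t' = ⟨t', htP⟩ := by
    show MonoidHom.transfer (MonoidHom.id (P : Subgroup (invC t))) t' = _
    rw [MonoidHom.transfer_eq_pow (MonoidHom.id (P : Subgroup (invC t))) t' fun k g₀ _ => by
      rw [mul_assoc, ← Subgroup.mem_center_iff.1 (pow_mem hcen k) g₀, ← mul_assoc, inv_mul_cancel,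
        one_mul]]
    have hodd : Odd (P : Subgroup (invC t)).index := Nat.odd_iff.2 (Nat.two_dvd_ne_zero.1 P.not_dvd_index)
    obtain ⟨k, hk⟩ := hodd
    refine Subtype.ext ?_
    show t' ^ (P : Subgroup (invC t)).index = t'
    rw [hk, pow_succ, pow_mul, show t' ^ 2 = 1 from Subtype.ext (by rw [pow_two]; exact h.sq t ht),
      one_pow, one_mul]
  open scoped IsMulCommutative in
  refine ⟨⟨φ.comp τ, μ.comp (QuotientGroup.mk' (invM S t)), fun x => hφsq _, ?_, ?_, ?_, ?_⟩⟩
  · show (φ (τ t') : ℂ) = -1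
    rw [hτt]
    rcases mul_self_eq_one_iff.1 (hφsq ⟨t', htP⟩) with e | e
    · exact absurd (Units.ext e) hφ
    · exact e
  · intro x hx
    obtain ⟨k, hk⟩ := hx
    show (φ (τ x) : ℂ) = 1
    have h' : (φ (τ x) : ℂ) ^ orderOf x = 1 := by
      rw [← Units.val_pow_eq_pow_val, ← map_pow, ← map_pow, pow_orderOf_eq_one, map_one, map_one,
        Units.val_one]
    rwa [hk, pow_succ, pow_mul, pow_two, hφsq, one_pow, one_mul] at h'
  · intro x
    show (μ (x : invC t ⧸ invM S t) : ℂ) * μ x * μ x = 1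
    rw [← Units.val_mul, ← Units.val_mul, ← map_mul, ← map_mul,
      show (x : invC t ⧸ invM S t) * x * x = (x : invC t ⧸ invM S t) ^ 3 by rw [pow_three, mul_assoc],
      ← hidx, Subgroup.index_eq_card, pow_card_eq_one', map_one, Units.val_one]
  · intro x
    refine ⟨fun hx => ?_, fun hx => ?_⟩
    · show (μ (x : invC t ⧸ invM S t) : ℂ) = 1
      rw [(QuotientGroup.eq_one_iff x).2 hx, map_one, Units.val_one]
    · exact (QuotientGroup.eq_one_iff x).1 (hμ _ (Units.ext hx))

variable {S : Sylow 2 G} {t : G} {ht : t ∈ invC t} (L : LinPair S t ht)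

namespace LinPair

/-- The difference of characters vanishing outside the section of `t`. -/
noncomputable def psi (x : invC t) : ℂ := (1 - (L.e x : ℂ)) * ((L.l x : ℂ) - 1)

lemma e_cases (x : invC t) : (L.e x : ℂ) = 1 ∨ (L.e x : ℂ) = -1 :=
  mul_self_eq_one_iff.1 (L.e_sq x)

lemma conj_e (x : invC t) : conj (L.e x : ℂ) = L.e x := by
  rcases L.e_cases x with h | h <;> simp [h]

lemma conj_l (x : invC t) : conj (L.l x : ℂ) = (L.l x : ℂ) * L.l x := by
  have hn : ‖(L.l x : ℂ)‖ = 1 :=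
    Complex.norm_eq_one_of_pow_eq_one (n := 3) (by rw [pow_three, ← mul_assoc]; exact L.l_cube x) (by norm_num)
  rw [← Complex.inv_eq_conj hn]
  exact inv_eq_of_mul_eq_one_right (by rw [← mul_assoc]; exact L.l_cube x)

open scoped Classical in
lemma geom (x : invC t) :
    1 + (L.l x : ℂ) + (L.l x : ℂ) * L.l x = if x ∈ invM S t then 3 else 0 := by
  split_ifs with hx
  · rw [(L.l_ker x).1 hx]; norm_num
  · have hne : (L.l x : ℂ) - 1 ≠ 0 := sub_ne_zero.2 fun e => hx ((L.l_ker x).2 e)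
    refine (mul_eq_zero.1 (show ((L.l x : ℂ) - 1) * (1 + L.l x + L.l x * L.l x) = 0 by
      linear_combination L.l_cube x)).resolve_left hne

lemma e_inv (x : invC t) : (L.e x⁻¹ : ℂ) = L.e x := by
  rw [map_inv, Units.val_inv_eq_inv_val]
  exact inv_eq_of_mul_eq_one_right (L.e_sq x)

lemma isClassFunction_psi : Cfsg.IsClassFunction (invC t) L.psi := fun x y => by
  simp only [psi, map_mul, map_inv, Units.val_mul, Units.val_inv_eq_inv_val]
  field_simp

lemma ne_zero_of_psi {x : invC t} (hx : L.psi x ≠ 0) : (L.e x : ℂ) = -1 ∧ x ∉ invM S t := by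
  refine ⟨(L.e_cases x).resolve_left fun e => hx ?_, fun e => hx ?_⟩
  · rw [psi, e, sub_self, zero_mul]
  · rw [psi, (L.l_ker x).1 e, sub_self, mul_zero]

/-- The difference is a combination of four linear characters. -/
lemma psi_eq : L.psi = (fun x => (L.l x : ℂ)) - (fun _ => (1 : ℂ)) -
    (fun x => ((L.e * L.l) x : ℂ)) + fun x => (L.e x : ℂ) := by
  funext x
  simp only [psi, Pi.add_apply, Pi.sub_apply, MonoidHom.mul_apply, Units.val_mul]
  ring

variable [Fintype (invC t)]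

omit L in
lemma sum_hom_zero (f : invC t →* ℂˣ) {x : invC t} (hx : (f x : ℂ) ≠ 1) : ∑ y, (f y : ℂ) = 0 :=
  sum_hom_units_eq_zero (R := ℂ) ((Units.coeHom ℂ).comp f) (fun e => hx (DFunLike.congr_fun e x))

lemma sum_e : ∑ y, (L.e y : ℂ) = 0 := sum_hom_zero L.e (x := ⟨t, ht⟩) (by rw [L.e_t]; norm_num)

lemma sum_l (hne : ∃ x : invC t, x ∉ invM S t) : ∑ y, (L.l y : ℂ) = 0 := by
  obtain ⟨x, hx⟩ := hne
  exact sum_hom_zero L.l (x := x) fun e => hx ((L.l_ker x).2 e)

lemma sum_ll (hne : ∃ x : invC t, x ∉ invM S t) : ∑ y, (L.l y : ℂ) * L.l y = 0 := by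
  obtain ⟨x, hx⟩ := hne
  have h := sum_hom_zero (L.l * L.l) (x := x) fun e => hx ((L.l_ker x).2 (by
    rw [MonoidHom.mul_apply, Units.val_mul] at e
    have := L.l_cube x
    rwa [e, one_mul] at this))
  simpa using h

lemma sum_el (htM : (⟨t, ht⟩ : invC t) ∈ invM S t) : ∑ y, (L.e y : ℂ) * L.l y = 0 := by
  have h := sum_hom_zero (L.e * L.l) (x := ⟨t, ht⟩) (by
    rw [MonoidHom.mul_apply, Units.val_mul, L.e_t, (L.l_ker _).1 htM]; norm_num)
  simpa using h

lemma sum_ell (htM : (⟨t, ht⟩ : invC t) ∈ invM S t) :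
    ∑ y, (L.e y : ℂ) * ((L.l y : ℂ) * L.l y) = 0 := by
  have h := sum_hom_zero (L.e * (L.l * L.l)) (x := ⟨t, ht⟩) (by
    rw [MonoidHom.mul_apply, MonoidHom.mul_apply, Units.val_mul, Units.val_mul, L.e_t,
      (L.l_ker _).1 htM]; norm_num)
  simpa using h

/-- Sums of combinations of the six characters. -/
lemma sum_comb (hne : ∃ x : invC t, x ∉ invM S t) (htM : (⟨t, ht⟩ : invC t) ∈ invM S t)
    (F : invC t → ℂ) (c₀ c₁ c₂ c₃ c₄ c₅ : ℂ)
    (hF : ∀ y, F y = c₀ + c₁ * (L.l y : ℂ) + c₂ * ((L.l y : ℂ) * L.l y) + c₃ * (L.e y : ℂ) +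
      c₄ * ((L.e y : ℂ) * L.l y) + c₅ * ((L.e y : ℂ) * ((L.l y : ℂ) * L.l y))) :
    ∑ y, F y = (Nat.card (invC t) : ℂ) * c₀ := by
  simp only [hF, Finset.sum_add_distrib, ← Finset.mul_sum, L.sum_e, L.sum_l hne, L.sum_ll hne,
    L.sum_el htM, L.sum_ell htM, mul_zero, add_zero, Finset.sum_const, Finset.card_univ,
    nsmul_eq_mul, Nat.card_eq_fintype_card]

end LinPair

end Cfsg.Lib.EightSolvable
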