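import Mathlib

/-!
# The arithmetic of the exceptional characters for an elementary Sylow subgroup of order eight

Signs `a`, values `u` at the involution and degrees `d` of three characters cannot satisfy the
three linear and quadratic relations coming from the section of the involution.
-/

set_option autoImplicit false

namespace Cfsg.Lib.EightSolvable

/-- The conditions on one character. -/
def Adm (a u d : ℤ) : Prop :=
  (a = 1 ∨ a = -1) ∧ ¬ 3 ∣ u ∧ 2 ≤ d ∧ 0 ≤ d + 7 * u ∧ 8 ∣ d - u

lemma Adm.value_cases {a u d : ℤ} (h : Adm a u d) (hu : u ^ 2 ≤ 23) :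
    u = 1 ∨ u = -1 ∨ u = 2 ∨ u = -2 ∨ u = 4 ∨ u = -4 := by
  obtain ⟨-, h3, -, -, -⟩ := h
  have h1 : -4 ≤ u := by nlinarith
  have h2 : u ≤ 4 := by nlinarith
  omega

/-- Two positive signs and one negative sign, the first contribution being large. -/
lemma no_triple_big {u v w d e f : ℤ} (hu : Adm 1 u d) (hv : Adm 1 v e) (hw : Adm (-1) w f)
    (hs : u ^ 2 + v ^ 2 + w ^ 2 ≤ 23) (h1 : d + e - f = 1) (h2 : u + v - w = 1)
    (h3 : u ^ 2 * (e * f) + v ^ 2 * (d * f) - w ^ 2 * (d * e) = d * e * f)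
    (hbig : d ≤ 2 * u ^ 2) : False := by
  have hsu : u ^ 2 ≤ 23 := by nlinarith
  have hsv : v ^ 2 ≤ 23 := by nlinarith
  have hu' := hu.value_cases hsu
  have hv' := hv.value_cases hsv
  obtain ⟨-, -, hd2, hd7, hd8⟩ := hu
  obtain ⟨-, -, he2, he7, he8⟩ := hv
  obtain ⟨-, hw3, hf2, hf7, hf8⟩ := hw
  have hw' : w = u + v - 1 := by omega
  have hf : f = d + e - 1 := by omega
  subst hw' hf
  rcases hu' with rfl | rfl | rfl | rfl | rfl | rfl <;>
    rcases hv' with rfl | rfl | rfl | rfl | rfl | rfl <;> norm_num at hs <;> norm_num at hw3 <;>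
    norm_num at hbig <;>
    first
      | omega
      | (have hd : d = 2 ∨ d = 4 ∨ d = 12 ∨ d = 20 ∨ d = 28 := by omega
         rcases hd with rfl | rfl | rfl | rfl | rfl <;> first
          | omega
          | nlinarith [h3, he2, sq_nonneg (e - 7), sq_nonneg (e - 14)]
          | (have hle : e ≤ 28 := by nlinarith
             interval_cases e <;> omega))

/-- **No three characters satisfy the relations.** -/
theorem no_triple {a₁ a₂ a₃ u₁ u₂ u₃ d₁ d₂ d₃ : ℤ} (h₁ : Adm a₁ u₁ d₁) (h₂ : Adm a₂ u₂ d₂)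
    (h₃ : Adm a₃ u₃ d₃) (hs : u₁ ^ 2 + u₂ ^ 2 + u₃ ^ 2 ≤ 23)
    (hd : a₁ * d₁ + a₂ * d₂ + a₃ * d₃ = 1) (hu : a₁ * u₁ + a₂ * u₂ + a₃ * u₃ = 1)
    (hq : a₁ * u₁ ^ 2 * (d₂ * d₃) + a₂ * u₂ ^ 2 * (d₁ * d₃) + a₃ * u₃ ^ 2 * (d₁ * d₂) = d₁ * d₂ * d₃) :
    False := by
  have single : ∀ {u v w d e f : ℤ}, Adm 1 u d → Adm (-1) v e → Adm (-1) w f →
      u ^ 2 + v ^ 2 + w ^ 2 ≤ 23 → d - e - f = 1 → u - v - w = 1 →
      u ^ 2 * (e * f) - v ^ 2 * (d * f) - w ^ 2 * (d * e) = d * e * f → False := by
    intro u v w d e f hu hv hw hs h1 h2 h3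
    have hd : (d : ℤ) ≤ u ^ 2 := by
      have := hv.2.2.1
      have := hw.2.2.1
      have hef : 0 < e * f := by nlinarith
      by_contra hlt
      nlinarith [mul_nonneg (sq_nonneg v) (mul_nonneg (show (0 : ℤ) ≤ d by linarith [hu.2.2.1]) (show (0 : ℤ) ≤ f by linarith)),
        mul_nonneg (sq_nonneg w) (mul_nonneg (show (0 : ℤ) ≤ d by linarith [hu.2.2.1]) (show (0 : ℤ) ≤ e by linarith)),
        mul_pos (show 0 < d - u ^ 2 by linarith) hef]
    have hsu : u ^ 2 ≤ 23 := by nlinarith
    have hsv : v ^ 2 ≤ 23 := by nlinarith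
    have hu' := hu.value_cases hsu
    have hv' := hv.value_cases hsv
    obtain ⟨-, -, hd2, hd7, hd8⟩ := hu
    obtain ⟨-, -, he2, he7, he8⟩ := hv
    obtain ⟨-, hw3, hf2, hf7, hf8⟩ := hw
    have hw' : w = u - v - 1 := by omega
    have hf : f = d - e - 1 := by omega
    subst hw' hf
    rcases hu' with rfl | rfl | rfl | rfl | rfl | rfl <;>
      rcases hv' with rfl | rfl | rfl | rfl | rfl | rfl <;> norm_num at hs <;> norm_num at hd <;>
      first
        | omega
        | (have he : e = 9 := by omega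
           subst he
           have hd' : d = 12 := by omega
           subst hd'
           norm_num at h3)
        | (have he : e = 2 := by omega
           subst he
           have hd' : d = 12 := by omega
           subst hd'
           norm_num at h3)
  have double : ∀ {u v w d e f : ℤ}, Adm 1 u d → Adm 1 v e → Adm (-1) w f →
      u ^ 2 + v ^ 2 + w ^ 2 ≤ 23 → d + e - f = 1 → u + v - w = 1 →
      u ^ 2 * (e * f) + v ^ 2 * (d * f) - w ^ 2 * (d * e) = d * e * f → False := by
    intro u v w d e f hu hv hw hs h1 h2 h3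
    by_cases hb : d ≤ 2 * u ^ 2
    · exact no_triple_big hu hv hw hs h1 h2 h3 hb
    by_cases hc : e ≤ 2 * v ^ 2
    · exact no_triple_big hv hu hw (by linarith) (by linarith) (by linarith) (by linarith) hc
    push Not at hb hc
    have hd0 := hu.2.2.1
    have he0 := hv.2.2.1
    have hf0 := hw.2.2.1
    nlinarith [mul_pos (show 0 < d - 2 * u ^ 2 by linarith) (show 0 < e * f by nlinarith),
      mul_pos (show 0 < e - 2 * v ^ 2 by linarith) (show 0 < d * f by nlinarith),
      mul_nonneg (sq_nonneg w) (show (0 : ℤ) ≤ d * e by nlinarith)]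
  have hp1 := h₁.2.2.1
  have hp2 := h₂.2.2.1
  have hp3 := h₃.2.2.1
  rcases h₁.1 with rfl | rfl <;> rcases h₂.1 with rfl | rfl <;> rcases h₃.1 with rfl | rfl <;>
    norm_num at hd hu hq
  all_goals first
    | omega
    | exact double h₁ h₂ h₃ (by linarith) (by linarith) (by linarith) (by linarith)
    | exact double h₁ h₃ h₂ (by linarith) (by linarith) (by linarith) (by linarith)
    | exact double h₂ h₃ h₁ (by linarith) (by linarith) (by linarith) (by linarith)
    | exact single h₁ h₂ h₃ (by linarith) (by linarith) (by linarith) (by linarith)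
    | exact single h₂ h₁ h₃ (by linarith) (by linarith) (by linarith) (by linarith)
    | exact single h₃ h₁ h₂ (by linarith) (by linarith) (by linarith) (by linarith)

end Cfsg.Lib.EightSolvable
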