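import Cfsg.Agent.InvolCalc.EightSolvable.Section
import Cfsg.Agent.InvolCalc.EightSolvable.Numeric
import Cfsg.Agent.S0944

/-!
# The exceptional characters refute the automiser of order twenty-one
-/

set_option autoImplicit false
set_option linter.unusedSectionVars false
set_option linter.style.haveILetI false

namespace Cfsg.Lib.EightSolvable

open Subgroup Cfsg.Lib.Chars Cfsg.Lib.Blocks
open scoped ComplexConjugate

universe u

variable {G : Type u} [Group G]

/-- The complex conjugate character. -/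
noncomputable def barIrr [Finite G] (χ : Cfsg.IrrCharacter G) : Cfsg.IrrCharacter G :=
  ⟨fun g => conj ((χ : G → ℂ) g), IsIrrCharacter.conjugate χ.2⟩

lemma barIrr_barIrr [Finite G] (χ : Cfsg.IrrCharacter G) : barIrr (barIrr χ) = χ :=
  Subtype.ext (funext fun g => Complex.conj_conj _)

/-- A linear character of a non-abelian simple group is principal. -/
lemma eq_principal_of_linear [Finite G] [IsSimpleGroup G] (hG : ¬ IsMulCommutative G)
    (χ : Cfsg.IrrCharacter G) (h1 : (χ : G → ℂ) 1 = 1) : χ = Chars.principal G := by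
  obtain ⟨f, hf⟩ := exists_hom_of_deg_one (isCharacter_of_irr χ.2) h1
  rcases (MonoidHom.normal_ker f).eq_bot_or_eq_top with hb | hb
  · refine absurd ⟨⟨fun a b => ?_⟩⟩ hG
    exact (MonoidHom.ker_eq_bot_iff f).1 hb (by rw [map_mul, map_mul, mul_comm])
  · refine Subtype.ext ?_
    rw [hf]
    funext g
    rw [MonoidHom.mem_ker.1 (hb ▸ Subgroup.mem_top g : g ∈ f.ker)]
    rfl

variable [Fintype G] {S : Sylow 2 G} {t : G}

/-- The bound on the column of the involution. -/
lemma column_bound (h : Hyp S) (ht : t ∈ (S : Subgroup G)) (h1 : t ≠ 1)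
    (L : LinPair S t (le_invC S h.comm ht ht)) {M : Ideal AlgInt} (hM : IsPModular 2 M)
    (u : Cfsg.IrrCharacter G → ℤ) (hu : ∀ χ : Cfsg.IrrCharacter G, (χ : G → ℂ) t = (u χ : ℂ))
    (W : Finset (Cfsg.IrrCharacter G)) (hW : ∀ χ ∈ W, χ ∈ Cfsg.principalBlock M G) :
    ∑ χ ∈ W, u χ ^ 2 ≤ 24 := by
  classical
  letI := Fintype.ofFinite (invC t)
  obtain ⟨hn, hidx, hcard, hSM, hOM, -, -⟩ := h.frame ht h1
  haveI := hn
  set t' : invC t := ⟨t, le_invC S h.comm ht ht⟩ with ht'
  set f : invC t → ℂ := fun x => if t' * x ∈ invO t then 1 else 0 with hf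
  have hfT : ∀ x : invC t, (x : G) ∉ secT t → f x = 0 := by
    intro x hx
    rw [hf]
    refine if_neg fun hm => hx ⟨x.2, ?_⟩
    have := odd_of_mem_invO hm
    rwa [← Subgroup.orderOf_coe] at this
  have hf1 : f 1 = 0 := hfT 1 fun hx => by
    have := hx.2
    rw [Subgroup.coe_one, mul_one, h.order_two ht h1] at this
    exact absurd this (by decide)
  have hcz : ∀ y : invC t, t' * y = y * t' := fun y =>
    Subtype.ext (mem_centralizer_singleton_iff.1 y.2).symm
  have hfc : Cfsg.IsClassFunction (invC t) f := by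
    intro x y
    simp only [hf]
    refine if_congr ?_ rfl rfl
    rw [show t' * (y * x * y⁻¹) = y * (t' * x) * y⁻¹ by rw [← mul_assoc, ← mul_assoc, hcz y, mul_assoc y]]
    exact ⟨fun hh => by
      have := (inferInstance : (invO t).Normal).conj_mem _ hh y⁻¹
      rwa [show y⁻¹ * (y * (t' * x) * y⁻¹) * y⁻¹⁻¹ = t' * x by group] at this,
      fun hh => (inferInstance : (invO t).Normal).conj_mem _ hh y⟩
  have hO : ∑ x : invC t, f x = (Nat.card (invO t) : ℂ) := by
    rw [hf, Finset.sum_boole, ← Fintype.card_subtype, ← Nat.card_eq_fintype_card]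
    exact congrArg Nat.cast (Nat.card_congr ((Equiv.mulLeft t').subtypeEquiv fun x => Iff.rfl))
  have hN : (Nat.card (invC t) : ℂ) = 24 * (Nat.card (invO t) : ℂ) := by
    rw [← (invM S t).card_mul_index, hidx, hcard]
    push_cast
    ring
  have hO0 : (Nat.card (invO t) : ℂ) ≠ 0 := Nat.cast_ne_zero.2 Nat.card_pos.ne'
  have hnorm : Cfsg.classInner (Cfsg.indFun (invC t) f) (Cfsg.indFun (invC t) f) = (1 / 24 : ℝ) := by
    rw [inner_ind (h.sq t ht) hfT hf1 hfc hfT, classInner_def,
      Finset.sum_congr rfl (g := f) fun x _ => by simp only [hf]; split_ifs <;> simp, hO, hN]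
    push_cast
    field_simp
  have hexp := inner_expand (g := Cfsg.indFun (invC t) f) (isClassFunction_indFun (invC t) f)
  rw [hnorm] at hexp
  simp only [Complex.mul_conj] at hexp
  rw [← Complex.ofReal_sum, Complex.ofReal_inj] at hexp
  have hval : ∀ χ ∈ W, Complex.normSq (Cfsg.classInner (Cfsg.indFun (invC t) f) (χ : G → ℂ)) =
      ((u χ : ℝ) ^ 2) / 576 := by
    intro χ hχ
    rw [frobenius_reciprocity _ _ (isClassFunction_irr χ), classInner_def]
    have hterm : ∀ x : invC t, f x * conj ((χ : G → ℂ) x) = f x * (u χ : ℂ) := by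
      intro x
      simp only [hf]
      split_ifs with hm
      · have hxM : x ∈ invM S t := by
          have := mul_mem (hSM (show t' ∈ invS S t from ht)) (hOM hm)
          rwa [← mul_assoc, show t' * t' = 1 from tq_sq h ht, one_mul] at this
        have he : (L.e x : ℂ) = -1 := by
          have := L.e_odd _ (odd_of_mem_invO hm)
          rw [e_tmul h ht h1 L] at this
          linear_combination -this
        rw [value_inner h ht h1 L hM (hW χ hχ) hxM he, hu, map_intCast]
      · rw [zero_mul, zero_mul]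
    rw [Finset.sum_congr rfl fun x _ => hterm x, ← Finset.sum_mul, hO, hN,
      show (24 * (Nat.card (invO t) : ℂ))⁻¹ * ((Nat.card (invO t) : ℂ) * (u χ : ℂ)) =
        (((u χ : ℝ) / 24 : ℝ) : ℂ) by push_cast; field_simp, Complex.normSq_ofReal]
    ring
  have hle : ∑ χ ∈ W, ((u χ : ℝ) ^ 2) / 576 ≤ 1 / 24 := by
    rw [← Finset.sum_congr rfl hval, hexp]
    exact Finset.sum_le_sum_of_subset_of_nonneg (Finset.subset_univ _)
      fun χ _ _ => Complex.normSq_nonneg _
  rw [← Finset.sum_div] at hle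
  have : ((∑ χ ∈ W, u χ ^ 2 : ℤ) : ℝ) ≤ (24 : ℤ) := by
    push_cast
    linarith
  exact_mod_cast this

set_option maxHeartbeats 1000000 in
/-- **The automiser of order twenty-one is impossible.** -/
theorem not_hyp [IsSimpleGroup G] (hG : ¬ IsMulCommutative G) (S : Sylow 2 G) : ¬ Hyp S := by
  classical
  intro h
  haveI : Fact (Nat.Prime 2) := ⟨Nat.prime_two⟩
  obtain ⟨t, ht, h1⟩ : ∃ t ∈ (S : Subgroup G), t ≠ 1 := by
    by_contra hcon
    push Not at hcon
    have hb := (Subgroup.eq_bot_iff_forall _).2 hcon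
    have := h.card
    rw [hb, Subgroup.card_bot] at this
    omega
  letI := Fintype.ofFinite (invC t)
  obtain ⟨L⟩ := exists_linPair h ht h1
  obtain ⟨M, hM⟩ := exists_isPModular Nat.prime_two
  have hto := h.order_two ht h1
  choose A hA using exists_int_coeff h ht h1 L
  choose u hu _ using fun χ : Cfsg.IrrCharacter G => Cfsg.Agent.S0944.result χ t hto
  set F := Cfsg.indFun (invC t) L.psi with hF
  set F' := Cfsg.indFun (invC t) (fun x => conj (L.psi x)) with hF'
  set p := Chars.principal G with hp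
  have hpv : ∀ g : G, (p : G → ℂ) g = 1 := fun _ => rfl
  have hco : ∀ χ : Cfsg.IrrCharacter G, Cfsg.classInner F χ = (A χ : ℂ) := fun χ => by
    rw [hF, frobenius_reciprocity _ _ (isClassFunction_irr χ), hA]
  have hAbar : ∀ χ : Cfsg.IrrCharacter G,
      conj (Cfsg.classInner L.psi (fun x : invC t => conj ((χ : G → ℂ) x))) = (A (barIrr χ) : ℂ) := fun χ => by
    rw [show Cfsg.classInner L.psi (fun x : invC t => conj ((χ : G → ℂ) x)) = (A (barIrr χ) : ℂ) from
      hA (barIrr χ), map_intCast]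
  have hco' : ∀ χ : Cfsg.IrrCharacter G, Cfsg.classInner F' χ = (A (barIrr χ) : ℂ) := fun χ => by
    rw [hF', frobenius_reciprocity _ _ (isClassFunction_irr χ), ← hAbar χ]
    simp only [classInner_def, map_mul, map_inv₀, map_natCast, map_sum, Complex.conj_conj]
  have hpsiT : ∀ x : invC t, (x : G) ∉ secT t → L.psi x = 0 := fun x hx => psi_secT h ht h1 L hx
  have hpsiT' : ∀ x : invC t, (x : G) ∉ secT t → conj (L.psi x) = 0 := fun x hx => by
    rw [hpsiT x hx, map_zero]
  have hsum4 : ∑ χ, A χ * A χ = 4 := by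
    have e := inner_expand (g := F) (isClassFunction_indFun (invC t) L.psi)
    rw [show Cfsg.classInner (Cfsg.indFun (invC t) L.psi) F = 4 by
      rw [hF, inner_ind (h.sq t ht) hpsiT (psi_one h ht L) L.isClassFunction_psi hpsiT,
        inner_psi_self h ht h1 L]] at e
    simp only [← hF, hco, map_intCast] at e
    exact_mod_cast e.symm
  have hsum2 : ∑ χ, A χ * A (barIrr χ) = 2 := by
    have e := inner_expand (g := F') (isClassFunction_indFun (invC t) L.psi)
    rw [show Cfsg.classInner (Cfsg.indFun (invC t) L.psi) F' = 2 by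
      rw [hF', inner_ind (h.sq t ht) hpsiT (psi_one h ht L)
        (fun a b => congrArg conj (L.isClassFunction_psi a b)) hpsiT', inner_psi_conj h ht h1 L]] at e
    simp only [← hF, hco, hco', map_intCast] at e
    exact_mod_cast e.symm
  have hAp : A p = -1 := by
    have e := hA p
    rw [show (fun x : invC t => (p : G → ℂ) x) = fun _ => (1 : ℂ) from rfl, inner_psi_one h ht h1 L] at e
    exact_mod_cast e.symm
  have hpbar : barIrr p = p := Subtype.ext (funext fun g => by
    show conj ((p : G → ℂ) g) = (p : G → ℂ) g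
    rw [hpv, map_one])
  -- three exceptional characters
  set W := Finset.univ.filter (fun χ => χ ≠ p ∧ A χ ≠ 0) with hW
  have hrest : ∀ g : Cfsg.IrrCharacter G → ℤ, (∀ χ, A χ = 0 → g χ = 0) →
      ∑ χ, g χ = g p + ∑ χ ∈ W, g χ := by
    intro g hg
    rw [← Finset.add_sum_erase Finset.univ g (Finset.mem_univ p)]
    congr 1
    refine (Finset.sum_subset (fun χ hχ => ?_) fun χ hχ hn => hg χ ?_).symm
    · exact Finset.mem_erase.2 ⟨(Finset.mem_filter.1 hχ).2.1, Finset.mem_univ _⟩
    · by_contra hne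
      exact hn (Finset.mem_filter.2 ⟨Finset.mem_univ _, (Finset.mem_erase.1 hχ).1, hne⟩)
  have hW3 : ∑ χ ∈ W, A χ * A χ = 3 := by
    have := hrest (fun χ => A χ * A χ) fun χ e => by simp [e]
    rw [hsum4, hAp] at this
    linarith
  have hpm : ∀ χ ∈ W, A χ = 1 ∨ A χ = -1 := by
    intro χ hχ
    have h2 : A χ * A χ ≤ 3 := hW3 ▸ Finset.single_le_sum (f := fun χ => A χ * A χ)
      (fun _ _ => mul_self_nonneg _) hχ
    have h3 : -1 ≤ A χ := by nlinarith
    have h4 : A χ ≤ 1 := by nlinarith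
    have := (Finset.mem_filter.1 hχ).2.2
    omega
  have hsmall : ∀ χ, A χ = 0 ∨ A χ = 1 ∨ A χ = -1 := by
    intro χ
    by_cases h0 : A χ = 0
    · exact Or.inl h0
    by_cases hχp : χ = p
    · exact Or.inr (Or.inr (hχp ▸ hAp))
    · exact Or.inr (hpm χ (Finset.mem_filter.2 ⟨Finset.mem_univ _, hχp, h0⟩))
  have hcard : W.card = 3 := by
    have : ∑ χ ∈ W, A χ * A χ = ∑ _χ ∈ W, (1 : ℤ) := Finset.sum_congr rfl fun χ hχ => by
      rcases hpm χ hχ with e | e <;> rw [e] <;> norm_num
    rw [hW3, Finset.sum_const, nsmul_eq_mul, mul_one] at this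
    exact_mod_cast this.symm
  have hWB : ∀ χ ∈ W, A χ * A (barIrr χ) ≤ 1 := by
    intro χ _
    rcases hsmall χ with e | e | e <;> rcases hsmall (barIrr χ) with e' | e' | e' <;> rw [e, e'] <;> norm_num
  have hab : ∀ χ ∈ W, A (barIrr χ) ≠ -A χ := by
    intro χ hχ he
    obtain ⟨hχp, hχ0⟩ := (Finset.mem_filter.1 hχ).2
    have hmem : barIrr χ ∈ W := Finset.mem_filter.2 ⟨Finset.mem_univ _, fun e => hχp (by
      rw [← barIrr_barIrr χ, e, hpbar]), by rw [he]; exact neg_ne_zero.2 hχ0⟩
    have hne : barIrr χ ≠ χ := fun e => by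
      rw [e] at he
      omega
    have hW1 : ∑ ψ ∈ W, A ψ * A (barIrr ψ) = 1 := by
      have := hrest (fun ψ => A ψ * A (barIrr ψ)) fun ψ e => by simp [e]
      rw [hsum2, hpbar, hAp] at this
      linarith
    rw [← Finset.add_sum_erase W _ hχ,
      ← Finset.add_sum_erase (W.erase χ) _ (Finset.mem_erase.2 ⟨hne, hmem⟩)] at hW1
    have hle : ∑ ψ ∈ (W.erase χ).erase (barIrr χ), A ψ * A (barIrr ψ) ≤ 1 := by
      refine (Finset.sum_le_card_nsmul _ _ 1 fun ψ hψ =>
        hWB ψ (Finset.mem_of_mem_erase (Finset.mem_of_mem_erase hψ))).trans ?_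
      rw [Finset.card_erase_of_mem (Finset.mem_erase.2 ⟨hne, hmem⟩), Finset.card_erase_of_mem hχ, hcard]
      norm_num
    rw [barIrr_barIrr, he] at hW1
    rcases hpm χ hχ with e | e <;> rw [e] at hW1 <;> linarith
  have hB0 : ∀ χ, A χ ≠ 0 → χ ∈ Cfsg.principalBlock M G := by
    intro χ h0
    by_contra hn
    have := coeff_eq_zero h ht h1 L hM hn
    rw [hA] at this
    exact h0 (by exact_mod_cast this)
  have h3u : ∀ χ ∈ W, ¬ (3 : ℤ) ∣ u χ := by
    intro χ hχ hd
    obtain ⟨n, hn⟩ := coeff_congr h ht h1 L hM (hB0 χ (Finset.mem_filter.1 hχ).2.2)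
    rw [hA, hAbar, hu, map_intCast] at hn
    have hn' : A χ + A (barIrr χ) = u χ - 3 * n := by exact_mod_cast hn
    have := hab χ hχ
    rcases hpm χ hχ with e | e <;> rcases hsmall (barIrr χ) with e' | e' | e' <;>
      rw [e, e'] at hn' this <;> omega
  -- degrees
  have hdeg : ∀ χ ∈ W, (2 : ℤ) ≤ (deg (χ : G → ℂ) : ℤ) := by
    intro χ hχ
    by_contra hlt
    have h0 := deg_irr_pos χ
    have h1' : deg (χ : G → ℂ) = 1 := by omega
    exact (Finset.mem_filter.1 hχ).2.1 (eq_principal_of_linear hG χ (by rw [irr_apply_one_eq_deg, h1', Nat.cast_one]))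
  have hrestr : ∀ χ : Cfsg.IrrCharacter G, 0 ≤ (deg (χ : G → ℂ) : ℤ) + 7 * u χ ∧
      (8 : ℤ) ∣ (deg (χ : G → ℂ) : ℤ) - u χ := by
    intro χ
    letI := Fintype.ofFinite (S : Subgroup G)
    obtain ⟨c, hc⟩ := classInner_char_nat (IsCharacter.restrict (isCharacter_of_irr χ.2) (S : Subgroup G))
      (isCharacter_one (G := (S : Subgroup G)))
    have hs : ∑ a : (S : Subgroup G), (χ : G → ℂ) a = (deg (χ : G → ℂ) : ℂ) + 7 * (u χ : ℂ) := by
      rw [← Finset.add_sum_erase Finset.univ _ (Finset.mem_univ (1 : (S : Subgroup G))),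
        OneMemClass.coe_one, irr_apply_one_eq_deg,
        Finset.sum_congr rfl (g := fun _ => (u χ : ℂ)) fun a ha => ?_,
        Finset.sum_const, Finset.card_erase_of_mem (Finset.mem_univ _), Finset.card_univ,
        ← Nat.card_eq_fintype_card, h.card, nsmul_eq_mul]
      · norm_num
      · rw [← hu χ]
        refine (classFunction_eq_of_isConj (isClassFunction_irr χ)
          (h.isConj ht h1 (h.order_two a.2 fun e => (Finset.mem_erase.1 ha).1 (Subtype.ext e)))).symm
    rw [classInner_def, h.card] at hc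
    simp only [map_one, mul_one] at hc
    rw [hs] at hc
    push_cast at hc
    have e : (deg (χ : G → ℂ) : ℤ) + 7 * u χ = 8 * (c : ℤ) := by
      have : ((deg (χ : G → ℂ) : ℂ) + 7 * (u χ : ℂ)) = 8 * (c : ℂ) := by rw [← hc]; ring
      exact_mod_cast this
    omega
  obtain ⟨x, y, z, hxy, hxz, hyz, hW'⟩ := Finset.card_eq_three.1 hcard
  have hx : x ∈ W := by simp [hW']
  have hy : y ∈ W := by simp [hW']
  have hz : z ∈ W := by simp [hW']
  have hadm : ∀ χ ∈ W, Adm (A χ) (u χ) (deg (χ : G → ℂ) : ℤ) := fun χ hχ =>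
    ⟨hpm χ hχ, h3u χ hχ, hdeg χ hχ, (hrestr χ).1, (hrestr χ).2⟩
  have hsum3 : ∀ g : Cfsg.IrrCharacter G → ℂ, ∑ χ, (A χ : ℂ) * g χ =
      -(g p) + ((A x : ℂ) * g x + (A y : ℂ) * g y + (A z : ℂ) * g z) := by
    intro g
    rw [← Finset.add_sum_erase Finset.univ _ (Finset.mem_univ p), hAp]
    push_cast
    rw [neg_one_mul]
    congr 1
    rw [← Finset.sum_subset (s₁ := W) (fun χ hχ => Finset.mem_erase.2 ⟨(Finset.mem_filter.1 hχ).2.1, Finset.mem_univ _⟩)
      fun χ hχ hn => by
        rw [show A χ = 0 by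
          by_contra hne
          exact hn (Finset.mem_filter.2 ⟨Finset.mem_univ _, (Finset.mem_erase.1 hχ).1, hne⟩)]
        simp, hW', Finset.sum_insert (by simp [hxy, hxz]), Finset.sum_pair hyz]
    ring
  have hexp : ∀ g : G, F g = ∑ χ, (A χ : ℂ) * (χ : G → ℂ) g := fun g => by
    rw [hF, classFunction_expand_apply (isClassFunction_indFun (invC t) L.psi) g]
    simp only [← hF, hco]
  have e1 := hexp 1
  rw [hF, indFun_one, psi_one h ht L, mul_zero, hsum3, hpv] at e1
  simp only [irr_apply_one_eq_deg] at e1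
  have et := hexp t
  rw [hF, psi_indFun_involution h ht h1 L hto, hsum3, hpv, hu, hu, hu] at et
  have eq := sum_quotient_eq_zero h ht h1 L
  simp only [hA, mul_div_assoc] at eq
  rw [hsum3, hpv, hpv, hu, hu, hu] at eq
  simp only [irr_apply_one_eq_deg] at eq
  have hne : ∀ χ : Cfsg.IrrCharacter G, (deg (χ : G → ℂ) : ℂ) ≠ 0 := fun χ =>
    Nat.cast_ne_zero.2 (deg_irr_pos χ).ne'
  have := hne x; have := hne y; have := hne z
  field_simp at eq
  have hcol := column_bound h ht h1 L hM u hu (insert p W) (fun χ hχ => by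
    rcases Finset.mem_insert.1 hχ with rfl | hχ
    · exact hB0 _ (by rw [hAp]; norm_num)
    · exact hB0 χ (Finset.mem_filter.1 hχ).2.2)
  have hup : u p = 1 := by
    have e := hu p
    rw [hpv] at e
    exact_mod_cast e.symm
  rw [Finset.sum_insert (by simp [hW]), hup, hW', Finset.sum_insert (by simp [hxy, hxz]),
    Finset.sum_pair hyz] at hcol
  refine no_triple (hadm x hx) (hadm y hy) (hadm z hz) (by linarith) ?_ ?_ ?_
  · have : (A x : ℂ) * (deg (x : G → ℂ) : ℂ) + (A y : ℂ) * (deg (y : G → ℂ) : ℂ) +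
        (A z : ℂ) * (deg (z : G → ℂ) : ℂ) = 1 := by linear_combination -e1
    exact_mod_cast this
  · have : (A x : ℂ) * (u x : ℂ) + (A y : ℂ) * (u y : ℂ) + (A z : ℂ) * (u z : ℂ) = 1 := by
      linear_combination -et
    exact_mod_cast this
  · have : (A x : ℂ) * (u x : ℂ) ^ 2 * ((deg (y : G → ℂ) : ℂ) * (deg (z : G → ℂ) : ℂ)) +
        (A y : ℂ) * (u y : ℂ) ^ 2 * ((deg (x : G → ℂ) : ℂ) * (deg (z : G → ℂ) : ℂ)) +
        (A z : ℂ) * (u z : ℂ) ^ 2 * ((deg (x : G → ℂ) : ℂ) * (deg (y : G → ℂ) : ℂ)) =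
        (deg (x : G → ℂ) : ℂ) * (deg (y : G → ℂ) : ℂ) * (deg (z : G → ℂ) : ℂ) := by
      linear_combination eq
    exact_mod_cast this

end Cfsg.Lib.EightSolvable
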