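import Cfsg.Agent.InvolCalc.EightSolvable.Linear
import Cfsg.Agent.Blocks.ZStar
import Cfsg.Agent.Blocks.PrincipalColumn
import Cfsg.Agent.Chars.Sums

/-!
# The section of an involution
-/

set_option autoImplicit false
set_option linter.unusedSectionVars false
set_option linter.style.haveILetI false

namespace Cfsg.Lib.EightSolvable

open Subgroup Cfsg.Lib.Chars Cfsg.Lib.Blocks
open scoped ComplexConjugate

universe u

variable {G : Type u} [Group G] [Fintype G]

/-- The section of `t` inside its centraliser. -/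
def secT (t : G) : Set G := {g | g ∈ invC t ∧ Odd (orderOf (t * g))}

lemma secT_pow {t x : G} (htt : t * t = 1) (hx : x ∈ secT t) {m : ℕ} (hm : Odd m)
    (hd : orderOf (t * x) ∣ m) : x ^ m = t := by
  have hc : Commute t x := (mem_centralizer_singleton_iff.1 hx.1).symm
  have h1 : (t * x) ^ m = 1 := orderOf_dvd_iff_pow_eq_one.1 hd
  obtain ⟨k, rfl⟩ := hm
  rw [hc.mul_pow, pow_succ t, pow_mul, pow_two, htt, one_pow, one_mul] at h1
  rw [eq_inv_of_mul_eq_one_right h1, inv_eq_of_mul_eq_one_right htt]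

lemma secT_TI {t g x : G} (htt : t * t = 1) (hg : g ∉ invC t) (hx : x ∈ secT t)
    (hy : g * x * g⁻¹ ∈ secT t) : False := by
  refine hg (mem_centralizer_singleton_iff.2 ?_)
  have hm := Odd.mul hx.2 hy.2
  have h1 := secT_pow htt hx hm (dvd_mul_right _ _)
  have h2 := secT_pow htt hy hm (dvd_mul_left _ _)
  rw [conj_pow, h1] at h2
  exact mul_inv_eq_iff_eq_mul.1 h2

lemma indFun_secT {t : G} (htt : t * t = 1) {θ : invC t → ℂ}
    (hθ : Cfsg.IsClassFunction (invC t) θ) (hθT : ∀ x : invC t, (x : G) ∉ secT t → θ x = 0)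
    (x : invC t) (hx : (x : G) ∈ secT t) (hx1 : x ≠ 1) : Cfsg.indFun (invC t) θ x = θ x :=
  indFun_TI_apply' (invC t) (secT t)
    (fun g hg y hy hgy => (secT_TI htt hg hy hgy).elim) hθ hθT x hx hx1

lemma inner_ind {t : G} [Fintype (invC t)] (htt : t * t = 1) {θ₁ θ₂ : invC t → ℂ}
    (h₁ : ∀ x : invC t, (x : G) ∉ secT t → θ₁ x = 0) (h₁1 : θ₁ 1 = 0)
    (hc : Cfsg.IsClassFunction (invC t) θ₂) (h₂ : ∀ x : invC t, (x : G) ∉ secT t → θ₂ x = 0) :
    Cfsg.classInner (Cfsg.indFun (invC t) θ₁) (Cfsg.indFun (invC t) θ₂) =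
      Cfsg.classInner θ₁ θ₂ := by
  rw [frobenius_reciprocity _ _ (isClassFunction_indFun _ θ₂), classInner_def, classInner_def]
  refine congrArg _ (Finset.sum_congr rfl fun x _ => ?_)
  by_cases hx : (x : G) ∈ secT t
  · by_cases h1 : x = 1
    · rw [h1, h₁1, zero_mul, zero_mul]
    · rw [indFun_secT htt hc h₂ x hx h1]
  · rw [h₁ x hx, zero_mul, zero_mul]

/-- Parseval. -/
lemma inner_expand {f g : G → ℂ} (hf : Cfsg.IsClassFunction G f) :
    Cfsg.classInner f g = ∑ χ : Cfsg.IrrCharacter G,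
      Cfsg.classInner f χ * conj (Cfsg.classInner g χ) := by
  conv_lhs => rw [classFunction_expand hf]
  rw [classInner_sum_left]
  refine Finset.sum_congr rfl fun χ _ => ?_
  rw [classInner_smul_left, ← classInner_conj_symm g (χ : G → ℂ)]

variable {S : Sylow 2 G} {t : G} (h : Hyp S) (ht : t ∈ (S : Subgroup G)) (h1 : t ≠ 1)
  (L : LinPair S t (le_invC S h.comm ht ht))

include h1

lemma tq_mem : (⟨t, le_invC S h.comm ht ht⟩ : invC t) ∈ invM S t := (h.frame ht h1).2.2.2.1 ht

omit h1 in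
lemma tq_sq : (⟨t, le_invC S h.comm ht ht⟩ : invC t) * ⟨t, le_invC S h.comm ht ht⟩ = 1 :=
  Subtype.ext (h.sq t ht)

include L in
lemma exists_outside : ∃ x : invC t, x ∉ invM S t := by
  have hidx := (h.frame ht h1).2.1
  by_contra hcon
  push Not at hcon
  rw [(eq_top_iff.2 fun x _ => hcon x : invM S t = ⊤), index_top] at hidx
  omega

lemma e_tmul (x : invC t) :
    (L.e (⟨t, le_invC S h.comm ht ht⟩ * x) : ℂ) = -(L.e x : ℂ) := by
  rw [map_mul, Units.val_mul, L.e_t, neg_one_mul]

lemma l_tmul (x : invC t) :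
    (L.l (⟨t, le_invC S h.comm ht ht⟩ * x) : ℂ) = (L.l x : ℂ) := by
  rw [map_mul, Units.val_mul, (L.l_ker _).1 (tq_mem h ht h1), one_mul]

/-- Outside `O S` the sign detects odd order. -/
lemma odd_iff {x : invC t} (hx : x ∉ invM S t) : Odd (orderOf x) ↔ (L.e x : ℂ) = 1 := by
  refine ⟨L.e_odd x, fun he => ((h.frame ht h1).2.2.2.2.2.1 x hx).resolve_right fun ho => ?_⟩
  have := L.e_odd _ ho
  rw [e_tmul h ht h1 L, he] at this
  norm_num at this

lemma odd_tmul {x : invC t} (hx : x ∉ invM S t) (he : (L.e x : ℂ) = -1) :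
    Odd (orderOf (⟨t, le_invC S h.comm ht ht⟩ * x)) :=
  ((h.frame ht h1).2.2.2.2.2.1 x hx).resolve_left fun ho => by
    have := L.e_odd x ho
    rw [he] at this
    norm_num at this

lemma psi_secT {x : invC t} (hx : (x : G) ∉ secT t) : L.psi x = 0 := by
  by_contra hne
  obtain ⟨he, hM⟩ := L.ne_zero_of_psi hne
  refine hx ⟨x.2, ?_⟩
  have := odd_tmul h ht h1 L hM he
  rwa [← Subgroup.orderOf_coe] at this

omit h1 in
lemma psi_one : L.psi 1 = 0 := by simp [LinPair.psi]

lemma psi_indFun_involution {s : G} (hs : orderOf s = 2) :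
    Cfsg.indFun (invC t) L.psi s = 0 := by
  rw [indFun_apply, Finset.sum_eq_zero, mul_zero]
  intro x _
  by_cases hm : x⁻¹ * s * x ∈ invC t
  · rw [extendByZero_mem _ hm]
    by_contra hne
    obtain ⟨he, hM⟩ := L.ne_zero_of_psi hne
    set y : invC t := ⟨_, hm⟩ with hy
    have hyy : y * y = 1 := Subtype.ext (by
      show x⁻¹ * s * x * (x⁻¹ * s * x) = 1
      rw [show x⁻¹ * s * x * (x⁻¹ * s * x) = x⁻¹ * (s * s) * x by group, ← pow_two, ← hs,
        pow_orderOf_eq_one, mul_one, inv_mul_cancel])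
    have ho := odd_tmul h ht h1 L hM he
    set t' : invC t := ⟨t, le_invC S h.comm ht ht⟩ with ht'
    have hc : Commute t' y := Subtype.ext (mem_centralizer_singleton_iff.1 y.2).symm
    have h2 : orderOf (t' * y) ∣ 2 := orderOf_dvd_of_pow_eq_one (by
      rw [hc.mul_pow, pow_two, pow_two, tq_sq h ht, hyy, one_mul])
    rcases (Nat.dvd_prime Nat.prime_two).1 h2 with e | e
    · rw [orderOf_eq_one_iff, mul_eq_one_iff_inv_eq, inv_eq_of_mul_eq_one_right (tq_sq h ht)] at e
      exact hM (e ▸ tq_mem h ht h1)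
    · rw [e] at ho
      exact absurd ho (by decide)
  · exact extendByZero_not_mem _ hm

variable [Fintype (invC t)]

/-- The coefficients are integers. -/
lemma exists_int_coeff (χ : Cfsg.IrrCharacter G) :
    ∃ a : ℤ, Cfsg.classInner L.psi (fun x : invC t => (χ : G → ℂ) x) = (a : ℂ) := by
  have hr : Cfsg.IsCharacter (invC t) (fun x : invC t => (χ : G → ℂ) x) :=
    IsCharacter.restrict (isCharacter_of_irr χ.2) (invC t)
  obtain ⟨n₁, e₁⟩ := classInner_char_nat (isCharacter_linear L.l) hr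
  obtain ⟨n₂, e₂⟩ := classInner_char_nat (isCharacter_one (G := invC t)) hr
  obtain ⟨n₃, e₃⟩ := classInner_char_nat (isCharacter_linear (L.e * L.l)) hr
  obtain ⟨n₄, e₄⟩ := classInner_char_nat (isCharacter_linear L.e) hr
  refine ⟨(n₁ : ℤ) - n₂ - n₃ + n₄, ?_⟩
  rw [L.psi_eq, classInner_add_left, classInner_sub_left, classInner_sub_left, e₁, e₂, e₃, e₄]
  push_cast
  ring

lemma inner_psi_self : Cfsg.classInner L.psi L.psi = 4 := by
  rw [classInner_def, LinPair.sum_comb L (exists_outside h ht h1 L) (tq_mem h ht h1) _ 4 (-2) (-2) (-4) 2 2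
    fun y => ?_]
  · have : (Nat.card (invC t) : ℂ) ≠ 0 := Nat.cast_ne_zero.2 Nat.card_pos.ne'
    field_simp
  · simp only [LinPair.psi, map_mul, map_sub, map_one, L.conj_e, L.conj_l]
    linear_combination ((1 - 2 * (L.e y : ℂ) + (L.e y : ℂ) * L.e y)) * L.l_cube y +
      (2 - (L.l y : ℂ) - (L.l y : ℂ) * L.l y) * L.e_sq y

lemma inner_psi_conj : Cfsg.classInner L.psi (fun x => conj (L.psi x)) = 2 := by
  rw [classInner_def, LinPair.sum_comb L (exists_outside h ht h1 L) (tq_mem h ht h1) _ 2 (-4) 2 (-2) 4 (-2)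
    fun y => ?_]
  · have : (Nat.card (invC t) : ℂ) ≠ 0 := Nat.cast_ne_zero.2 Nat.card_pos.ne'
    field_simp
  · simp only [LinPair.psi, Complex.conj_conj]
    linear_combination ((L.l y : ℂ) - 1) * ((L.l y : ℂ) - 1) * L.e_sq y

lemma inner_psi_one : Cfsg.classInner L.psi (fun _ => (1 : ℂ)) = -1 := by
  rw [classInner_def, LinPair.sum_comb L (exists_outside h ht h1 L) (tq_mem h ht h1) _ (-1) 1 0 1 (-1) 0
    fun y => ?_]
  · have : (Nat.card (invC t) : ℂ) ≠ 0 := Nat.cast_ne_zero.2 Nat.card_pos.ne'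
    field_simp
  · simp only [LinPair.psi, map_one]
    ring

/-- **No two involutions multiply to an element of the support.** -/
lemma sum_quotient_eq_zero : ∑ χ : Cfsg.IrrCharacter G,
    Cfsg.classInner L.psi (fun x : invC t => (χ : G → ℂ) x) *
      ((χ : G → ℂ) t * (χ : G → ℂ) t) / (χ : G → ℂ) 1 = 0 := by
  classical
  have hto := h.order_two ht h1
  have key : ∀ c : invC t, L.psi c ≠ 0 →
      ∑ χ : Cfsg.IrrCharacter G,
        (χ : G → ℂ) t * (χ : G → ℂ) t * conj ((χ : G → ℂ) c) / (χ : G → ℂ) 1 = 0 := by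
    intro c hc
    obtain ⟨he, hcM⟩ := L.ne_zero_of_psi hc
    have hcT : (c : G) ∈ secT t := by
      by_contra hn; exact hc (psi_secT h ht h1 L hn)
    have hempty : IsEmpty {p : G × G // IsConj t p.1 ∧ IsConj t p.2 ∧ p.1 * p.2 = (c : G)} := by
      refine ⟨fun ⟨⟨x, y⟩, hx, hy, hxy⟩ => ?_⟩
      dsimp only at hx hy hxy
      have sq : ∀ {w : G}, IsConj t w → w * w = 1 := fun {w} hw => by
        obtain ⟨k, rfl⟩ := isConj_iff.1 hw
        rw [show k * t * k⁻¹ * (k * t * k⁻¹) = k * (t * t) * k⁻¹ by group, h.sq t ht, mul_one,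
          mul_inv_cancel]
      have hxi : x⁻¹ = x := inv_eq_of_mul_eq_one_right (sq hx)
      have hyi : y⁻¹ = y := inv_eq_of_mul_eq_one_right (sq hy)
      have hflip : x * (c : G) * x⁻¹ = (c : G)⁻¹ := by
        rw [← hxy, mul_inv_rev, hyi, hxi, ← mul_assoc x x, sq hx, one_mul]
      have hinv : (c : G)⁻¹ ∈ secT t := ⟨inv_mem c.2, by
        rw [show t * (c : G)⁻¹ = (t * (c : G))⁻¹ by
          rw [mul_inv_rev, inv_eq_of_mul_eq_one_right (h.sq t ht)]
          exact (Commute.inv_right (mem_centralizer_singleton_iff.1 c.2).symm).eq]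
        rw [orderOf_inv]; exact hcT.2⟩
      have hxH : x ∈ invC t := by
        by_contra hn
        exact secT_TI (h.sq t ht) hn hcT (hflip ▸ hinv)
      set x' : invC t := ⟨x, hxH⟩
      have hflip' : x' * c * x'⁻¹ = c⁻¹ := Subtype.ext hflip
      have e := congrArg (fun z => (L.l z : ℂ)) hflip'
      simp only [map_mul, map_inv, Units.val_mul, Units.val_inv_eq_inv_val] at e
      rw [mul_assoc, mul_left_comm, mul_inv_cancel₀ (Units.ne_zero _), mul_one] at e
      have e' : (L.l c : ℂ) * L.l c = 1 := by nth_rewrite 2 [e]; exact mul_inv_cancel₀ (Units.ne_zero _)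
      refine hcM ((L.l_ker c).2 ?_)
      have := L.l_cube c
      rwa [e', one_mul] at this
    have hm := class_mult_formula t t (c : G)
    rw [Nat.card_of_isEmpty (α := {p : G × G // IsConj t p.1 ∧ IsConj t p.2 ∧ p.1 * p.2 = (c : G)}),
      Nat.cast_zero, eq_comm, mul_eq_zero] at hm
    refine hm.resolve_left (div_ne_zero (mul_ne_zero ?_ ?_) (Nat.cast_ne_zero.2 Nat.card_pos.ne'))
    all_goals
      haveI : Nonempty {x : G // IsConj t x} := ⟨⟨t, IsConj.refl t⟩⟩
      exact Nat.cast_ne_zero.2 Nat.card_pos.ne'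
  simp only [classInner_def, Finset.mul_sum, Finset.sum_mul, Finset.sum_div]
  rw [Finset.sum_comm]
  refine Finset.sum_eq_zero fun c _ => ?_
  by_cases hc : L.psi c = 0
  · simp [hc]
  · rw [← mul_zero ((Nat.card (invC t) : ℂ)⁻¹ * L.psi c), ← key c hc, Finset.mul_sum]
    exact Finset.sum_congr rfl fun χ _ => by ring

/-- The odd elements outside contribute with weight four. -/
lemma sum_odd_l : ∑ x : invC t, (if 2 ∣ orderOf x then 0 else (L.l x : ℂ)) =
    (Nat.card (invO t) : ℂ) - (Nat.card (invM S t) : ℂ) / 2 := by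
  classical
  obtain ⟨hn, -, -, -, -, -, -⟩ := h.frame ht h1
  have hprops := invM_props S h.comm ht (h.sol t (h.order_two ht h1))
  have hO : ∀ x : invC t, x ∈ invM S t → (¬ 2 ∣ orderOf x ↔ x ∈ invO t) := fun x hx => by
    rw [← Nat.not_even_iff_odd.symm.trans (not_congr even_iff_two_dvd)]
    exact ⟨fun hh => hprops.2.2.2.1 x hx hh, fun hh => odd_of_mem_invO hh⟩
  have hpt : ∀ x : invC t, (if 2 ∣ orderOf x then 0 else (L.l x : ℂ)) =
      (if x ∈ invO t then 1 else 0) + ((1 + (L.e x : ℂ)) * L.l x) / 2 -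
        (if x ∈ invM S t then (1 + (L.e x : ℂ)) / 2 else 0) := by
    intro x
    by_cases hx : x ∈ invM S t
    · rw [(L.l_ker x).1 hx, if_pos hx, mul_one, add_sub_cancel_right]
      by_cases ho : 2 ∣ orderOf x
      · rw [if_pos ho, if_neg fun hh => (hO x hx).2 hh ho]
      · rw [if_neg ho, if_pos ((hO x hx).1 ho)]
    · rw [if_neg fun hh => hx (hprops.2.2.2.2.2 hh), if_neg hx, zero_add, sub_zero]
      have hodd := odd_iff h ht h1 L hx
      rw [Nat.odd_iff, ← Nat.two_dvd_ne_zero] at hodd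
      by_cases ho : 2 ∣ orderOf x
      · rw [if_pos ho, (L.e_cases x).resolve_left fun e => hodd.2 e ho]
        ring
      · rw [if_neg ho, hodd.1 ho]
        ring
  have heM : ∑ x : invC t, (if x ∈ invM S t then (L.e x : ℂ) else 0) = 0 := by
    set f := fun x : invC t => (if x ∈ invM S t then (L.e x : ℂ) else 0)
    have hshift : ∑ x, f x = ∑ x, -(f x) := by
      refine Fintype.sum_equiv (Equiv.mulLeft (⟨t, le_invC S h.comm ht ht⟩ : invC t)) _ _ fun x => ?_
      simp only [f, Equiv.coe_mulLeft, e_tmul h ht h1 L,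
        Subgroup.mul_mem_cancel_left _ (tq_mem h ht h1)]
      split_ifs <;> simp
    rw [Finset.sum_neg_distrib] at hshift
    show ∑ x, f x = 0
    linear_combination hshift / 2
  have hsplit : ∀ x : invC t, (if x ∈ invM S t then (1 + (L.e x : ℂ)) / 2 else 0) =
      ((if x ∈ invM S t then 1 else 0) + (if x ∈ invM S t then (L.e x : ℂ) else 0)) / 2 := fun x => by
    split_ifs <;> simp
  simp only [hpt, hsplit, Finset.sum_sub_distrib, Finset.sum_add_distrib, ← Finset.sum_div, add_mul,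
    one_mul, heM, L.sum_l (exists_outside h ht h1 L), L.sum_el (tq_mem h ht h1), add_zero, zero_div]
  rw [Finset.sum_boole, Finset.sum_boole, ← Fintype.card_subtype, ← Fintype.card_subtype,
    Nat.card_eq_fintype_card, Nat.card_eq_fintype_card]

variable {M : Ideal AlgInt} (hM : IsPModular 2 M)

include hM in
lemma l_pow_mem_principal (f : invC t →* ℂˣ)
    (hf : f = L.l ∨ f = L.l * L.l) :
    (⟨fun x => (f x : ℂ), isIrrCharacter_linear f⟩ : Cfsg.IrrCharacter (invC t)) ∈
      Cfsg.principalBlock M (invC t) := by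
  classical
  haveI : Fact (Nat.Prime 2) := ⟨Nat.prime_two⟩
  rw [mem_principal_iff_sum hM]
  have hO : (Nat.card (invO t) : ℂ) ≠ 0 := Nat.cast_ne_zero.2 Nat.card_pos.ne'
  have hval : ∑ x : invC t, (if 2 ∣ orderOf x then 0 else (L.l x : ℂ)) =
      -3 * (Nat.card (invO t) : ℂ) := by
    rw [sum_odd_l h ht h1 L, (h.frame ht h1).2.2.1]
    push_cast
    ring
  rcases hf with rfl | rfl
  · show ∑ x : invC t, (if 2 ∣ orderOf x then 0 else (L.l x : ℂ)) ≠ 0
    rw [hval]
    exact mul_ne_zero (by norm_num) hO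
  · have e : ∑ x : invC t, (if 2 ∣ orderOf x then 0 else ((L.l * L.l) x : ℂ)) =
        conj (∑ x : invC t, (if 2 ∣ orderOf x then 0 else (L.l x : ℂ))) := by
      rw [map_sum]
      refine Finset.sum_congr rfl fun x _ => ?_
      rw [apply_ite conj, map_zero, L.conj_l, MonoidHom.mul_apply, Units.val_mul]
    show ∑ x : invC t, (if 2 ∣ orderOf x then 0 else ((L.l * L.l) x : ℂ)) ≠ 0
    rw [e, hval, Ne, map_eq_zero]
    exact mul_ne_zero (by norm_num) hO

set_option maxHeartbeats 1000000 in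
include hM in
/-- **Only the principal block meets the section.** -/
lemma coeff_eq_zero {χ : Cfsg.IrrCharacter G} (hχ : χ ∉ Cfsg.principalBlock M G) :
    Cfsg.classInner L.psi (fun x : invC t => (χ : G → ℂ) x) = 0 := by
  classical
  haveI : Fact (Nat.Prime 2) := ⟨Nat.prime_two⟩
  have hto := h.order_two ht h1
  have hxp : ∃ k : ℕ, orderOf t = 2 ^ k := ⟨1, by rw [hto, pow_one]⟩
  have hH : invC t = Subgroup.centralizer (Subgroup.zpowers t : Set G) := (centralizer_zpowers t).symm
  have hb : IsPBlock M (Cfsg.principalBlock M (invC t)) := isPBlock_blockOf (Chars.principal (invC t))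
  have hB : IsPBlock M (blockOf M (χ : G → ℂ)) := isPBlock_blockOf χ
  have hnot : ¬ IsInducedBlock M (invC t) (Cfsg.principalBlock M (invC t)) (blockOf M (χ : G → ℂ)) := by
    intro hind
    have hp := (isInducedBlock_principal_iff hM (invC t) ⟨_, hind⟩).2 rfl
    exact hχ (IsInducedBlock.unique hM hind hp ▸ mem_blockOf_self hM χ)
  set t' : invC t := ⟨t, le_invC S h.comm ht ht⟩
  set F : invC t → ℂ := fun c => (χ : G → ℂ) (t * (c : G)) with hF
  set R := Finset.univ.filter (fun w : invC t => ¬ 2 ∣ orderOf w) with hR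
  have hz : ∀ θ : Cfsg.IrrCharacter (invC t), θ ∈ Cfsg.principalBlock M (invC t) →
      ∑ w ∈ R, F w * conj ((θ : invC t → ℂ) w) = 0 := by
    intro θ hθ
    rw [← sum_regular_blockPart hM hb F hθ]
    refine Finset.sum_eq_zero fun w hw => ?_
    rw [blockPart_translate_eq_zero hM hxp hH hB (mem_blockOf_self hM χ) hb hnot w
      (Finset.mem_filter.1 hw).2, zero_mul]
  have hp0 : Chars.principal (invC t) ∈ Cfsg.principalBlock M (invC t) :=
    mem_blockOf_self hM (Chars.principal (invC t))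
  have hz0 : ∑ w ∈ R, F w * conj (1 : ℂ) = 0 := hz (Chars.principal (invC t)) hp0
  have hz1 := hz _ (l_pow_mem_principal h ht h1 L hM L.l (Or.inl rfl))
  -- translate by `t`
  have hsum : ∑ x : invC t, L.psi x * conj ((χ : G → ℂ) x) =
      ∑ w ∈ R, 2 * ((L.l w : ℂ) - 1) * conj (F w) := by
    rw [← Equiv.sum_comp (Equiv.mulLeft t') (fun x => L.psi x * conj ((χ : G → ℂ) x)), hR,
      Finset.sum_filter]
    refine Finset.sum_congr rfl fun w _ => ?_
    simp only [Equiv.coe_mulLeft, LinPair.psi, t', e_tmul h ht h1 L, l_tmul h ht h1 L,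
      sub_neg_eq_add, Subgroup.coe_mul, hF]
    by_cases hw : w ∈ invM S t
    · rw [(L.l_ker w).1 hw, sub_self, mul_zero, zero_mul, mul_zero, zero_mul, ite_self]
    · have hodd := odd_iff h ht h1 L hw
      rw [Nat.odd_iff, ← Nat.two_dvd_ne_zero] at hodd
      by_cases ho : 2 ∣ orderOf w
      · rw [if_neg (not_not.2 ho), (L.e_cases w).resolve_left fun e => hodd.2 e ho]
        ring
      · rw [if_pos ho, hodd.1 ho]
        ring
  rw [classInner_def, hsum]
  have e : ∑ w ∈ R, 2 * ((L.l w : ℂ) - 1) * conj (F w) =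
      2 * (conj (∑ w ∈ R, F w * conj (L.l w : ℂ)) - conj (∑ w ∈ R, F w * conj (1 : ℂ))) := by
    rw [map_sum, map_sum, ← Finset.sum_sub_distrib, Finset.mul_sum]
    refine Finset.sum_congr rfl fun w _ => ?_
    simp only [map_mul, Complex.conj_conj]
    ring
  rw [e, show ∑ w ∈ R, F w * conj (L.l w : ℂ) = 0 from hz1,
    hz0]
  simp

include hM in
/-- In the principal block all elements of `O S` with negative sign take the value at `t`. -/
lemma value_inner {χ : Cfsg.IrrCharacter G} (hχ : χ ∈ Cfsg.principalBlock M G) {x : invC t}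
    (hx : x ∈ invM S t) (he : (L.e x : ℂ) = -1) : (χ : G → ℂ) x = (χ : G → ℂ) t := by
  obtain ⟨k, σ, v, hσ, hv, hcm, hk⟩ := (h.frame ht h1).2.2.2.2.2.2 x hx
  have hσ1 : (σ : G) ≠ 1 := by
    intro e'
    have eσ : σ = 1 := Subtype.ext e'
    have h' : (L.e (k * x * k⁻¹) : ℂ) = L.e x := by
      simp only [map_mul, map_inv, Units.val_mul, Units.val_inv_eq_inv_val]
      field_simp
    rw [hk, eσ, one_mul, L.e_odd v (odd_of_mem_invO hv), he] at h'
    norm_num at h'
  have hσo := h.order_two hσ hσ1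
  have hc : Commute (σ : G) (v : G) := congrArg Subtype.val hcm.eq
  have hval : (χ : G → ℂ) ((σ : G) * v) = (χ : G → ℂ) σ :=
    apply_mul_core hM hσo hc (mem_invO_of_commute S h.comm hσ ht (h.sol _ hσo) v hv _) hχ
  have hcl := isClassFunction_irr χ
  rw [← hcl (x : G) (k : G), show (k : G) * x * (k : G)⁻¹ = (σ : G) * v from congrArg Subtype.val hk,
    hval]
  exact (classFunction_eq_of_isConj hcl (h.isConj ht h1 hσo)).symm

include hM in
/-- **The congruence of the coefficients.** -/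
lemma coeff_congr {χ : Cfsg.IrrCharacter G} (hχ : χ ∈ Cfsg.principalBlock M G) :
    ∃ n : ℤ, Cfsg.classInner L.psi (fun x : invC t => (χ : G → ℂ) x) +
      conj (Cfsg.classInner L.psi (fun x : invC t => conj ((χ : G → ℂ) x))) =
      conj ((χ : G → ℂ) t) - 3 * (n : ℂ) := by
  classical
  have hr : Cfsg.IsCharacter (invC t) (fun x : invC t => (χ : G → ℂ) x) :=
    IsCharacter.restrict (isCharacter_of_irr χ.2) (invC t)
  obtain ⟨n₁, e₁⟩ := classInner_char_nat (isCharacter_one (G := invC t)) hr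
  obtain ⟨n₂, e₂⟩ := classInner_char_nat (isCharacter_linear L.e) hr
  refine ⟨(n₁ : ℤ) - n₂, ?_⟩
  push_cast
  rw [← e₁, ← e₂]
  set f := fun x : invC t => conj ((χ : G → ℂ) x) with hf
  set u := conj ((χ : G → ℂ) t) with hu
  have hN : (Nat.card (invC t) : ℂ) ≠ 0 := Nat.cast_ne_zero.2 Nat.card_pos.ne'
  have hMc : (Nat.card (invC t) : ℂ) = 3 * (Nat.card (invM S t) : ℂ) := by
    rw [← (invM S t).card_mul_index, (h.frame ht h1).2.1]
    push_cast
    ring
  simp only [classInner_def, map_mul, map_inv₀, map_natCast, map_sum, Complex.conj_conj]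
  rw [← mul_add, ← Finset.sum_add_distrib]
  have hpt : ∀ x : invC t, L.psi x * f x + conj (L.psi x) * f x =
      (if x ∈ invM S t then 3 * (1 - (L.e x : ℂ)) * u else 0) -
        3 * (1 * f x) + 3 * ((L.e x : ℂ) * f x) := by
    intro x
    simp only [LinPair.psi, map_mul, map_sub, map_one, L.conj_e, L.conj_l]
    have hg := L.geom x
    by_cases hx : x ∈ invM S t
    · rw [if_pos hx] at hg ⊢
      rcases L.e_cases x with e | e
      · rw [e]; ring
      · have : f x = u := by rw [hf, hu]; exact congrArg conj (value_inner h ht h1 L hM hχ hx e)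
        rw [this, e, (L.l_ker x).1 hx]; ring
    · rw [if_neg hx] at hg ⊢
      linear_combination (1 - (L.e x : ℂ)) * f x * hg
  rw [Finset.sum_congr rfl fun x _ => hpt x, Finset.sum_add_distrib, Finset.sum_sub_distrib,
    ← Finset.mul_sum, ← Finset.mul_sum]
  have hcount : ∑ x : invC t, (if x ∈ invM S t then 3 * (1 - (L.e x : ℂ)) * u else 0) =
      3 * (Nat.card (invM S t) : ℂ) * u := by
    have hrw : ∀ x : invC t, (if x ∈ invM S t then 3 * (1 - (L.e x : ℂ)) * u else 0) =
        ((1 + (L.l x : ℂ) + (L.l x : ℂ) * L.l x) * (1 - (L.e x : ℂ))) * u := fun x => by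
      rw [L.geom x]; split_ifs <;> ring
    rw [Finset.sum_congr rfl fun x _ => hrw x, ← Finset.sum_mul,
      L.sum_comb (exists_outside h ht h1 L) (tq_mem h ht h1) _ 1 1 1 (-1) (-1) (-1) fun y => by ring, hMc]
    ring
  rw [hcount, ← hMc]
  field_simp
  simp only [hf, Finset.mul_sum, mul_sub, mul_assoc]
  ring

end Cfsg.Lib.EightSolvable
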