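import Cfsg.Agent.InvolCalc.EightSolvable.Auto
import Cfsg.Agent.Coprime.SolvableBasics
import Cfsg.Agent.Coprime.Fitting
import Cfsg.Agent.Transfer.Control
import Cfsg.Agent.Transfer.Basic
import Cfsg.Prelude.Def_Transfer

/-!
# Solvable involution centralisers over an elementary Sylow subgroup of order eight
-/

set_option autoImplicit false
set_option linter.unusedSectionVars false
set_option linter.style.haveILetI false

namespace Cfsg.Lib.EightSolvable

open Subgroup

universe u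

variable {G : Type u} [Group G] [Finite G]

/-- The centraliser of an element. -/
abbrev invC (s : G) : Subgroup G := Subgroup.centralizer ({s} : Set G)

/-- Its core of odd order. -/
abbrev invO (s : G) : Subgroup (invC s) := pPrimeCore 2 (invC s)

/-- The Sylow subgroup inside the centraliser. -/
abbrev invS (S : Sylow 2 G) (s : G) : Subgroup (invC s) := (S : Subgroup G).subgroupOf (invC s)

/-- The subgroup `O S` of the centraliser. -/
def invM (S : Sylow 2 G) (s : G) : Subgroup (invC s) :=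
  ((invS S s).map (QuotientGroup.mk' (invO s))).comap (QuotientGroup.mk' (invO s))

section

variable (S : Sylow 2 G) {s : G}

lemma le_invC (hc : IsMulCommutative (S : Subgroup G)) (hs : s ∈ (S : Subgroup G)) :
    (S : Subgroup G) ≤ invC s := fun a ha =>
  mem_centralizer_singleton_iff.2 (congrArg Subtype.val (hc.is_comm.comm (⟨a, ha⟩ : (S : Subgroup G)) ⟨s, hs⟩))

lemma odd_of_mem_invO {x : invC s} (hx : x ∈ invO s) : Odd (orderOf x) := by
  have h := Cfsg.Lib.Components.coprime_card_pPrimeCore (G := invC s) 2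
  exact Nat.coprime_two_right.1 (h.coprime_dvd_left (Subgroup.orderOf_dvd_natCard _ hx))

lemma invS_isPGroup (S : Sylow 2 G) (s : G) : IsPGroup 2 (invS S s) :=
  S.2.comap_of_injective (invC s).subtype (Subgroup.subtype_injective _)

lemma eq_one_of_mem_invS_invO {x : invC s} (h1 : x ∈ invS S s) (h2 : x ∈ invO s) : x = 1 := by
  obtain ⟨k, hk⟩ := IsPGroup.iff_orderOf.1 (invS_isPGroup S s) ⟨x, h1⟩
  rw [Subgroup.orderOf_mk] at hk
  have hodd := odd_of_mem_invO h2
  rw [hk] at hodd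
  rcases Nat.eq_zero_or_pos k with rfl | hk0
  · rw [← orderOf_eq_one_iff, hk, pow_zero]
  · exact absurd (Nat.even_pow.2 ⟨even_two, hk0.ne'⟩) (Nat.not_even_iff_odd.2 hodd)

/-- **The centraliser of an involution modulo its odd core.** -/
theorem invM_props (hc : IsMulCommutative (S : Subgroup G)) (hs : s ∈ (S : Subgroup G))
    (hsol : Group.IsSolvable (invC s)) :
    (invM S s).Normal ∧
      (∀ x : invC s, (∀ σ ∈ invS S s, x * σ * x⁻¹ * σ⁻¹ ∈ invO s) → x ∈ invM S s) ∧
      (∀ m ∈ invM S s, ∀ σ ∈ invS S s, m * σ * m⁻¹ * σ⁻¹ ∈ invO s) ∧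
      (∀ x ∈ invM S s, Odd (orderOf x) → x ∈ invO s) ∧
      invS S s ≤ invM S s ∧ invO s ≤ invM S s := by
  haveI : Fact (Nat.Prime 2) := ⟨Nat.prime_two⟩
  haveI := hsol
  set O := invO s with hO
  set π := QuotientGroup.mk' O with hπ
  haveI : Group.IsSolvable (invC s ⧸ O) := Group.isSolvable_of_surjective (QuotientGroup.mk'_surjective O)
  set P : Sylow 2 (invC s) := S.subtype (le_invC S hc hs) with hP
  set Q := P.mapSurjective (QuotientGroup.mk'_surjective O) with hQ
  set T := (invS S s).map π with hT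
  have hTQ : (Q : Subgroup (invC s ⧸ O)) = T := rfl
  have hbot : pPrimeCore 2 (invC s ⧸ O) = ⊥ := Cfsg.Lib.Coprime.pPrimeCore_quotient_eq_bot
  have hle : pCore 2 (invC s ⧸ O) ≤ T := hTQ ▸ Cfsg.Lib.Coprime.pCore_le_sylow 2 Q
  have hab : T ≤ centralizer (T : Set (invC s ⧸ O)) := by
    rintro _ ⟨a, ha, rfl⟩
    rw [mem_centralizer_iff]
    rintro _ ⟨b, hb, rfl⟩
    rw [← map_mul, ← map_mul]
    have h := congrArg Subtype.val (hc.is_comm.comm (⟨(b : G), hb⟩ : (S : Subgroup G)) ⟨(a : G), ha⟩)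
    exact congrArg π (Subtype.ext h)
  have hTC : T ≤ centralizer (pCore 2 (invC s ⧸ O) : Set (invC s ⧸ O)) :=
    hab.trans (centralizer_le hle)
  have hself := Cfsg.Lib.Coprime.centralizer_pCore_le 2 hbot
  have hTeq : pCore 2 (invC s ⧸ O) = T := le_antisymm hle (hTC.trans hself)
  have hTn : T.Normal := hTeq ▸ inferInstance
  have hker : ∀ {x : invC s}, π x = 1 ↔ x ∈ O := fun {x} => QuotientGroup.eq_one_iff x
  refine ⟨hTn.comap π, ?_, ?_, ?_, fun x hx => ⟨x, hx, rfl⟩, fun x hx => ?_⟩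
  · intro x hx
    show π x ∈ T
    rw [← hTeq]
    refine hself ?_
    rw [hTeq, mem_centralizer_iff]
    rintro _ ⟨σ, hσ, rfl⟩
    have h := hker.2 (hx σ hσ)
    rw [map_mul, map_mul, map_mul, map_inv, map_inv, mul_inv_eq_one, mul_inv_eq_iff_eq_mul] at h
    exact h.symm
  · intro m hm σ hσ
    refine hker.1 ?_
    have h := mem_centralizer_iff.1 (hab (show π m ∈ T from hm)) (π σ) ⟨σ, hσ, rfl⟩
    rw [map_mul, map_mul, map_mul, map_inv, map_inv, ← h]
    group
  · intro x hx hodd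
    obtain ⟨a, ha, he⟩ := (show π x ∈ T from hx)
    refine hker.1 ?_
    rw [← orderOf_eq_one_iff]
    obtain ⟨k, hk⟩ := IsPGroup.iff_orderOf.1 (invS_isPGroup S s) ⟨a, ha⟩
    rw [Subgroup.orderOf_mk] at hk
    refine Nat.eq_one_of_dvd_coprimes (a := orderOf x) (b := 2 ^ k)
      ((Nat.coprime_two_right.2 hodd).pow_right k) (orderOf_map_dvd π x) ?_
    rw [← hk, ← he]
    exact orderOf_map_dvd π a
  · show π x ∈ T
    rw [hker.2 hx]
    exact one_mem T

/-- **Balance.** -/
theorem mem_invO_of_commute (hc : IsMulCommutative (S : Subgroup G)) {t : G}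
    (hs : s ∈ (S : Subgroup G)) (ht : t ∈ (S : Subgroup G)) (hsols : Group.IsSolvable (invC s))
    (x : invC t) (hx : x ∈ invO t) (hxs : (x : G) ∈ invC s) :
    (⟨(x : G), hxs⟩ : invC s) ∈ invO s := by
  obtain ⟨hn, hself, -, hodd, hSM, -⟩ := invM_props S hc hs hsols
  have hox : Odd (orderOf (x : G)) := by
    rw [Subgroup.orderOf_coe]; exact odd_of_mem_invO hx
  refine hodd _ (hself _ fun σ hσ => ?_) (by rw [Subgroup.orderOf_mk]; exact hox)
  have hσS : (σ : G) ∈ (S : Subgroup G) := hσ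
  let σ' : invC t := ⟨σ, le_invC S hc ht hσS⟩
  have h1 : x * σ' * x⁻¹ * σ'⁻¹ ∈ invO t := by
    rw [show x * σ' * x⁻¹ * σ'⁻¹ = x * (σ' * x⁻¹ * σ'⁻¹) by group]
    exact mul_mem hx ((inferInstance : (invO t).Normal).conj_mem _ (inv_mem hx) _)
  refine hodd _ (mul_mem ?_ (inv_mem (hSM hσ))) ?_
  · exact hn.conj_mem _ (hSM hσ) _
  · rw [← Subgroup.orderOf_coe]
    have := odd_of_mem_invO h1
    rw [← Subgroup.orderOf_coe] at this
    simpa using this

end

/-- What is left to refute. -/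
structure Hyp (S : Sylow 2 G) : Prop where
  comm : IsMulCommutative (S : Subgroup G)
  sq : ∀ a ∈ (S : Subgroup G), a * a = 1
  card : Nat.card (S : Subgroup G) = 8
  sol : ∀ t : G, orderOf t = 2 → Group.IsSolvable (invC t)
  trans : ∀ a ∈ (S : Subgroup G), ∀ b ∈ (S : Subgroup G), a ≠ 1 → b ≠ 1 →
    ∃ n ∈ normalizer ((S : Subgroup G) : Set G), n * a * n⁻¹ = b
  fixTwo : ∀ n ∈ normalizer ((S : Subgroup G) : Set G), n ∉ centralizer ((S : Subgroup G) : Set G) →
    ∀ a ∈ (S : Subgroup G), ∀ b ∈ (S : Subgroup G), a ≠ 1 → n * a * n⁻¹ = a → n * b * n⁻¹ = b →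
      b = 1 ∨ b = a
  stab : ∀ t ∈ (S : Subgroup G), t ≠ 1 →
    (centralizer ((S : Subgroup G) : Set G)).relIndex
      (normalizer ((S : Subgroup G) : Set G) ⊓ invC t) = 3

lemma Hyp.order_two {S : Sylow 2 G} (h : Hyp S) {a : G} (ha : a ∈ (S : Subgroup G)) (h1 : a ≠ 1) :
    orderOf a = 2 :=
  orderOf_eq_prime (by rw [pow_two]; exact h.sq a ha) h1

/-- Every involution is conjugate to any given one. -/
theorem Hyp.isConj {S : Sylow 2 G} (h : Hyp S) {t x : G} (ht : t ∈ (S : Subgroup G)) (h1 : t ≠ 1)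
    (hx : orderOf x = 2) : IsConj t x := by
  haveI : Fact (Nat.Prime 2) := ⟨Nat.prime_two⟩
  obtain ⟨R, hR⟩ := (IsPGroup.of_card (p := 2) (n := 1) (show Nat.card (zpowers x) = 2 ^ 1 by
    rw [Nat.card_zpowers, hx, pow_one])).exists_le_sylow
  obtain ⟨g, hg⟩ := MulAction.exists_smul_eq G R S
  have hm : g * x * g⁻¹ ∈ (S : Subgroup G) := by
    rw [← hg, Sylow.coe_subgroup_smul]
    exact ⟨x, hR (mem_zpowers x), rfl⟩
  obtain ⟨n, -, hn⟩ := h.trans t ht _ hm h1 fun e => by
    rw [mul_inv_eq_one, mul_eq_left] at e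
    rw [e, orderOf_one] at hx
    omega
  exact (isConj_iff.2 ⟨n, hn⟩ : IsConj t (g * x * g⁻¹)).trans (isConj_iff.2 ⟨g, rfl⟩ : IsConj x (g * x * g⁻¹)).symm

/-- The 2-part can be moved into the Sylow subgroup. -/
lemma exists_conj_parts {S : Sylow 2 G} {t : G} (hle : (S : Subgroup G) ≤ invC t) (x : invC t) :
    ∃ k σ v : invC t, σ ∈ invS S t ∧ Odd (orderOf v) ∧ Commute σ v ∧ k * x * k⁻¹ = σ * v := by
  haveI : Fact (Nat.Prime 2) := ⟨Nat.prime_two⟩
  obtain ⟨a, b, ha, hb, hab, ⟨i, hi⟩, hodd⟩ := Cfsg.Lib.Transfer.exists_pPart 2 x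
  obtain ⟨R, hR⟩ := (IsPGroup.of_card (p := 2) (n := i) (show Nat.card (zpowers a) = 2 ^ i by
    rw [Nat.card_zpowers, hi])).exists_le_sylow
  obtain ⟨k, hk⟩ := MulAction.exists_smul_eq (invC t) R (S.subtype hle)
  refine ⟨k, k * a * k⁻¹, k * b * k⁻¹, ?_, ?_, ?_, ?_⟩
  · show k * a * k⁻¹ ∈ ((S.subtype hle : Sylow 2 (invC t)) : Subgroup (invC t))
    rw [← hk, Sylow.coe_subgroup_smul]
    exact ⟨a, hR (mem_zpowers a), rfl⟩
  · rw [← MulAut.conj_apply, MulEquiv.orderOf_eq]
    exact Nat.coprime_two_right.1 hodd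
  · obtain ⟨m, rfl⟩ := mem_zpowers_iff.1 ha
    obtain ⟨n, rfl⟩ := mem_zpowers_iff.1 hb
    exact (Commute.zpow_zpow_self x m n).map (MulAut.conj k)
  · rw [show k * a * k⁻¹ * (k * b * k⁻¹) = k * (a * b) * k⁻¹ by group, hab]

/-- **The shape of the centraliser of an involution.** -/
theorem Hyp.frame {S : Sylow 2 G} (h : Hyp S) {t : G} (ht : t ∈ (S : Subgroup G)) (h1 : t ≠ 1) :
    (invM S t).Normal ∧ (invM S t).index = 3 ∧
      Nat.card (invM S t) = 8 * Nat.card (invO t) ∧
      invS S t ≤ invM S t ∧ invO t ≤ invM S t ∧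
      (∀ x : invC t, x ∉ invM S t →
        Odd (orderOf x) ∨ Odd (orderOf ((⟨t, le_invC S h.comm ht ht⟩ : invC t) * x))) ∧
      (∀ x ∈ invM S t, ∃ k σ v : invC t, σ ∈ invS S t ∧ v ∈ invO t ∧ Commute σ v ∧
        k * x * k⁻¹ = σ * v) := by
  haveI : Fact (Nat.Prime 2) := ⟨Nat.prime_two⟩
  have hle := le_invC S h.comm ht
  have hsol := h.sol t (h.order_two ht h1)
  obtain ⟨hn, hself, habel, hodd, hSM, hOM⟩ := invM_props S h.comm ht hsol
  haveI := hn
  set M := invM S t with hM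
  set N := normalizer ((S : Subgroup G) : Set G) with hN
  -- Frattini
  have hfr : normalizer ((S.subtype hle : Sylow 2 (invC t)) : Set (invC t)) ⊔ M = ⊤ :=
    Sylow.normalizer_sup_eq_top' (S.subtype hle) hSM
  have hnorm : ∀ n : invC t, n ∈ normalizer ((S.subtype hle : Sylow 2 (invC t)) : Set (invC t)) →
      (n : G) ∈ N := by
    intro n hn'
    rw [hN, mem_normalizer_iff]
    intro σ
    constructor
    · intro hσ
      exact (mem_normalizer_iff.1 hn' ⟨σ, hle hσ⟩).1 hσ
    · intro hσ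
      have hmem : σ ∈ invC t := by
        have := mul_mem (mul_mem (inv_mem n.2) (hle hσ)) n.2
        rwa [show (n : G)⁻¹ * ((n : G) * σ * (n : G)⁻¹) * (n : G) = σ by group] at this
      exact (mem_normalizer_iff.1 hn' ⟨σ, hmem⟩).2 hσ
  have hcent : ∀ n : invC t, (n : G) ∈ N → (n ∈ M ↔ (n : G) ∈ centralizer ((S : Subgroup G) : Set G)) := by
    intro n hnN
    constructor
    · intro hnM
      rw [mem_centralizer_iff]
      intro σ hσ
      have h2 := habel n hnM ⟨σ, hle hσ⟩ hσ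
      have h3 : n * ⟨σ, hle hσ⟩ * n⁻¹ * (⟨σ, hle hσ⟩ : invC t)⁻¹ ∈ invS S t :=
        mul_mem ((mem_normalizer_iff.1 hnN σ).1 hσ) (inv_mem hσ)
      have h4 := congrArg Subtype.val (eq_one_of_mem_invS_invO S h3 h2)
      simp only [coe_mul, coe_inv, OneMemClass.coe_one] at h4
      rw [mul_inv_eq_one, mul_inv_eq_iff_eq_mul] at h4
      exact h4.symm
    · intro hnC
      refine hself n fun σ hσ => ?_
      have e : n * σ = σ * n := Subtype.ext (mem_centralizer_iff.1 hnC σ hσ).symm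
      rw [e, mul_inv_cancel_right, mul_inv_cancel]
      exact one_mem _
  let L := N ⊓ invC t
  let ψ : L →* invC t ⧸ M := (QuotientGroup.mk' M).comp (Subgroup.inclusion inf_le_right)
  have hker : ψ.ker = (centralizer ((S : Subgroup G) : Set G)).subgroupOf L := by
    ext n
    rw [MonoidHom.mem_ker, mem_subgroupOf]
    exact (QuotientGroup.eq_one_iff _).trans (hcent (Subgroup.inclusion inf_le_right n) n.2.1)
  have hsurj : Function.Surjective ψ := by
    intro q
    obtain ⟨x, rfl⟩ := QuotientGroup.mk'_surjective M q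
    obtain ⟨n, hn', m, hm, rfl⟩ := Subgroup.mem_sup_of_normal_right.1 (hfr ▸ mem_top x)
    refine ⟨⟨(n : G), hnorm n hn', n.2⟩, ?_⟩
    show QuotientGroup.mk' M n = QuotientGroup.mk' M (n * m)
    rw [map_mul, show QuotientGroup.mk' M m = 1 from (QuotientGroup.eq_one_iff m).2 hm, mul_one]
  have hidx : M.index = 3 := by
    have h3 : ψ.ker.index = 3 := by rw [hker]; exact h.stab t ht h1
    rw [Subgroup.index_ker, MonoidHom.range_eq_top.2 hsurj, Subgroup.card_top] at h3
    rw [Subgroup.index_eq_card, h3]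
  refine ⟨hn, hidx, ?_, hSM, hOM, ?_, ?_⟩
  · have hT : Nat.card ((invS S t).map (QuotientGroup.mk' (invO t))) = 8 := by
      have hinj : Function.Injective ((QuotientGroup.mk' (invO t)).comp (invS S t).subtype) := by
        rw [injective_iff_map_eq_one]
        intro a ha
        exact Subtype.ext (eq_one_of_mem_invS_invO S a.2 ((QuotientGroup.eq_one_iff _).1 ha))
      have := Nat.card_congr (MonoidHom.ofInjective hinj).toEquiv
      rw [MonoidHom.range_comp, Subgroup.range_subtype] at this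
      rw [← this, Nat.card_congr (Subgroup.subgroupOfEquivOfLe hle).toEquiv, h.card]
    rw [hM, invM, Cfsg.Lib.Coprime.card_comap_mk', hT, mul_comm]
  · intro x hx
    obtain ⟨k, σ, v, hσ, hv, hcm, he⟩ := exists_conj_parts hle x
    have hkx : k * x * k⁻¹ ∉ M := fun e => hx (by
      have := hn.conj_mem _ e k⁻¹
      rwa [show k⁻¹ * (k * x * k⁻¹) * k⁻¹⁻¹ = x by group] at this)
    rw [he] at hkx
    have hvM : v ∉ M := fun e => hkx (mul_mem (hSM hσ) e)
    obtain ⟨n, hn', m, hm, rfl⟩ := Subgroup.mem_sup_of_normal_right.1 (hfr ▸ mem_top v)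
    have hnM : n ∉ M := fun e => hvM (mul_mem e hm)
    have hnN := hnorm n hn'
    have hnC : (n : G) ∉ centralizer ((S : Subgroup G) : Set G) := fun e => hnM ((hcent n hnN).2 e)
    have hms : m * σ * m⁻¹ = n⁻¹ * σ * n := by
      have := hcm.eq
      rw [show n⁻¹ * σ * n = n⁻¹ * (σ * (n * m)) * m⁻¹ by group, this]
      group
    have hfix : n⁻¹ * σ * n = σ := by
      have h2 := habel m hm σ hσ
      rw [hms] at h2
      have h3 : n⁻¹ * σ * n * σ⁻¹ ∈ invS S t := by
        refine mul_mem ?_ (inv_mem hσ)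
        exact (mem_normalizer_iff''.1 hnN (σ : G)).1 hσ
      exact mul_inv_eq_one.1 (eq_one_of_mem_invS_invO S h3 h2)
    have hfix' : (n : G) * (σ : G) * (n : G)⁻¹ = σ := by
      conv_lhs => rw [← congrArg Subtype.val hfix]
      simp only [coe_mul, coe_inv]
      group
    have hnt : (n : G) * t * (n : G)⁻¹ = t := by
      rw [mem_centralizer_singleton_iff.1 n.2, mul_inv_cancel_right]
    rcases h.fixTwo n hnN hnC t ht σ hσ h1 hnt hfix' with e | e
    · left
      have e' : σ = 1 := Subtype.ext e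
      rw [e', one_mul] at he
      have : orderOf (k * x * k⁻¹) = orderOf x := by rw [← MulAut.conj_apply, MulEquiv.orderOf_eq]
      rw [← this, he]
      exact hv
    · right
      set t' : invC t := ⟨t, hle ht⟩
      have e' : σ = t' := Subtype.ext e
      have hcz : ∀ y : invC t, t' * y = y * t' := fun y =>
        Subtype.ext (mem_centralizer_singleton_iff.1 y.2).symm
      have : orderOf (k * (t' * x) * k⁻¹) = orderOf (t' * x) := by
        rw [← MulAut.conj_apply, MulEquiv.orderOf_eq]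
      rw [← this, show k * (t' * x) * k⁻¹ = t' * (k * x * k⁻¹) by
        rw [← mul_assoc k, ← hcz k]; group, he, e', ← mul_assoc,
        show t' * t' = 1 from Subtype.ext (h.sq t ht), one_mul]
      exact hv
  · intro x hx
    obtain ⟨k, σ, v, hσ, hv, hcm, he⟩ := exists_conj_parts hle x
    have hkx : σ * v ∈ M := he ▸ hn.conj_mem _ hx k
    refine ⟨k, σ, v, hσ, hodd v ?_ hv, hcm, he⟩
    have := mul_mem (inv_mem (hSM hσ)) hkx
    rwa [inv_mul_cancel_left] at this

/-- A Sylow element centralised by the normaliser is trivial in a perfect simple group. -/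
theorem eq_one_of_central [IsSimpleGroup G] (hG : ¬ IsMulCommutative G) (S : Sylow 2 G)
    (hc : IsMulCommutative (S : Subgroup G)) {x : G} (hx : x ∈ (S : Subgroup G))
    (hfix : ∀ n ∈ normalizer ((S : Subgroup G) : Set G), n * x * n⁻¹ = x) : x = 1 := by
  haveI : Fact (Nat.Prime 2) := ⟨Nat.prime_two⟩
  haveI := hc
  open scoped IsMulCommutative in
  have h0 : MonoidHom.transfer (MonoidHom.id (S : Subgroup G)) x = 1 := by
    rcases (MonoidHom.normal_ker (MonoidHom.transfer (MonoidHom.id (S : Subgroup G)))).eq_bot_or_eq_top with hb | hb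
    · refine absurd ⟨⟨fun a b => ?_⟩⟩ hG
      exact (MonoidHom.ker_eq_bot_iff _).1 hb (by rw [map_mul, map_mul, mul_comm])
    · exact MonoidHom.mem_ker.1 (hb ▸ Subgroup.mem_top x)
  open scoped IsMulCommutative in
  rw [MonoidHom.transfer_eq_pow (MonoidHom.id (S : Subgroup G)) x fun k g₀ hk => by
    obtain ⟨n, hn, he⟩ := Cfsg.Lib.Transfer.abelian_sylow_fusion S hc (x ^ k) g₀⁻¹
      (pow_mem hx k) (by rw [inv_inv]; exact hk)
    rw [inv_inv] at he
    rw [he, ← conj_pow, hfix n hn]] at h0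
  have h2 : x ^ (S : Subgroup G).index = 1 := by simpa using congrArg Subtype.val h0
  rw [← orderOf_eq_one_iff]
  obtain ⟨k, hk⟩ := IsPGroup.iff_orderOf.1 S.2 ⟨x, hx⟩
  rw [Subgroup.orderOf_mk] at hk
  refine Nat.eq_one_of_dvd_coprimes ?_ hk.dvd (orderOf_dvd_of_pow_eq_one h2)
  exact ((Nat.prime_two.coprime_iff_not_dvd).2 S.not_dvd_index).pow_left k

/-- **The automiser has order seven, or the refutable configuration holds.** -/
theorem relIndex_eq_seven_or_hyp [IsSimpleGroup G] (hG : ¬ IsMulCommutative G) (S : Sylow 2 G)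
    (hS : Cfsg.IsElementaryAbelian 2 (S : Subgroup G)) (hS8 : Nat.card (S : Subgroup G) = 8)
    (hC : ∀ t : G, orderOf t = 2 → Group.IsSolvable (invC t)) :
    (centralizer ((S : Subgroup G) : Set G)).relIndex (normalizer ((S : Subgroup G) : Set G)) = 7 ∨
      Hyp S := by
  haveI : Fact (Nat.Prime 2) := ⟨Nat.prime_two⟩
  obtain ⟨hc, hsq⟩ := hS
  set P := (S : Subgroup G) with hP
  set C := centralizer (P : Set G) with hC'
  set N := normalizer (P : Set G) with hN
  let φ : N →* MulAut P := P.normalizerMonoidHom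
  have happ : ∀ (n : N) (a : P), ((φ n a : P) : G) = (n : G) * a * (n : G)⁻¹ := fun _ _ => rfl
  have hker : φ.ker = C.subgroupOf N := Subgroup.normalizerMonoidHom_ker P
  have hrel : Nat.card φ.range = C.relIndex N := by rw [← Subgroup.index_ker, hker]; rfl
  have hodd : Odd (Nat.card φ.range) := by
    rw [hrel, Nat.odd_iff, ← Nat.two_dvd_ne_zero]
    intro hd
    have hPC : P ≤ C := fun a ha => mem_centralizer_iff.2 fun b hb =>
      congrArg Subtype.val (hc.is_comm.comm (⟨b, hb⟩ : P) ⟨a, ha⟩)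
    have h1 : P.relIndex C * C.relIndex N = P.relIndex N :=
      Subgroup.relIndex_mul_relIndex P C N hPC (by
        intro a ha
        rw [hN, mem_normalizer_iff]
        intro b
        refine ⟨fun hb => ?_, fun hb => ?_⟩
        · rwa [show a * b * a⁻¹ = b by rw [← mem_centralizer_iff.1 ha b hb, mul_inv_cancel_right]]
        · have := mem_centralizer_iff.1 (inv_mem ha) _ hb
          have e : b = a * b * a⁻¹ := by
            calc b = a⁻¹ * (a * b * a⁻¹) * a := by group
              _ = _ := by rw [← this]; group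
          rwa [e])
    have h2 : ¬ 2 ∣ P.relIndex N := by
      intro h
      exact S.not_dvd_index (h.trans (Subgroup.relIndex_dvd_index_of_le le_normalizer))
    exact h2 (h1 ▸ hd.mul_left _)
  have hfix : ∀ a : P, (∀ σ ∈ φ.range, σ a = a) → a = 1 := by
    intro a ha
    refine Subtype.ext (eq_one_of_central hG S hc a.2 fun n hn => ?_)
    have := ha (φ ⟨n, hn⟩) ⟨_, rfl⟩
    simpa [happ] using congrArg Subtype.val this
  rcases auto_structure hS8 φ.range hodd hfix with h7 | ⟨h21, htr, hfx, hst⟩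
  · exact Or.inl (hrel ▸ h7)
  refine Or.inr ⟨hc, fun a ha => by rw [← pow_two]; exact hsq a ha, hS8, hC, ?_, ?_, ?_⟩
  · intro a ha b hb ha1 hb1
    obtain ⟨σ, ⟨n, rfl⟩, hn⟩ := htr ⟨a, ha⟩ ⟨b, hb⟩ (fun e => ha1 (congrArg Subtype.val e))
      (fun e => hb1 (congrArg Subtype.val e))
    exact ⟨n, n.2, by simpa [happ] using congrArg Subtype.val hn⟩
  · intro n hn hnC a ha b hb ha1 hna hnb
    have hne : φ ⟨n, hn⟩ ≠ 1 := fun e => hnC (by
      have : (⟨n, hn⟩ : N) ∈ φ.ker := MonoidHom.mem_ker.2 e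
      rw [hker] at this
      exact this)
    rcases hfx (φ ⟨n, hn⟩) ⟨_, rfl⟩ hne ⟨a, ha⟩ ⟨b, hb⟩ (fun e => ha1 (congrArg Subtype.val e))
      (Subtype.ext hna) (Subtype.ext hnb) with e | e
    · exact Or.inl (congrArg Subtype.val e)
    · exact Or.inr (congrArg Subtype.val e)
  · intro t ht ht1
    set L := N ⊓ invC t
    let χ : L →* MulAut P := φ.comp (Subgroup.inclusion inf_le_left)
    have hk : χ.ker = C.subgroupOf L := by
      rw [← MonoidHom.comap_ker, hker]; rfl
    show (C.subgroupOf L).index = 3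
    rw [← hk, Subgroup.index_ker, ← hst ⟨t, ht⟩ (fun e => ht1 (congrArg Subtype.val e))]
    refine Nat.card_congr ((Equiv.subtypeEquivRight (q := fun σ => σ ∈ φ.range ∧ σ ⟨t, ht⟩ = ⟨t, ht⟩) ?_).trans
      ⟨fun σ => ⟨⟨σ.1, σ.2.1⟩, σ.2.2⟩, fun σ => ⟨σ.1.1, σ.1.2, σ.2⟩, fun _ => rfl, fun _ => rfl⟩)
    intro σ
    constructor
    · rintro ⟨n, rfl⟩
      refine ⟨⟨_, rfl⟩, Subtype.ext ?_⟩
      show (n : G) * t * (n : G)⁻¹ = t
      rw [mem_centralizer_singleton_iff.1 n.2.2, mul_inv_cancel_right]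
    · rintro ⟨⟨n, rfl⟩, hn⟩
      refine ⟨⟨n, n.2, mem_centralizer_singleton_iff.2 ?_⟩, rfl⟩
      exact mul_inv_eq_iff_eq_mul.1 (congrArg Subtype.val hn)

end Cfsg.Lib.EightSolvable
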